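import Mathlib
import Cfsg.Agent.FastGrp
import Cfsg.Agent.Prune
set_option linter.all false
prune_inst 0x7fbeadfbebfa8fffffff7e7faededdfdfebdbfffa6fffdfbffe06bffabdf6f1acdc563cdefeb3afe1fb7c29410ec7bc3ffffffffea6ffc7ffffddff41ffbfe1ffdf7b50951dc88b41fbc2ff683f07f8e7f3fffffffffffffffffffffffffffbeffffffffffff
open scoped Cfsg.Agent.FastGrp

-- part: H888/C6/Wt
section
/-!
# Simultaneous eigenvectors of commuting involutions (helper888)

* `IsWt f χ` : there is a common eigenvector with eigenvalues `χ`;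
* `card_wt_le` : the number of weights of a commuting family is at most the dimension;
* `exists_wt_ne` : a commuting family of involutions (characteristic not 2) one of whose members is not `c • 1`
  has a weight with value different from `c` there.
-/

set_option autoImplicit false

namespace Cfsg.Agent.H888.C6

open Module Module.End

variable {K V ι : Type*} [Field K] [AddCommGroup V] [Module K V]

/-- `χ` is a weight of the family `f`. -/
def IsWt (f : ι → End K V) (χ : ι → K) : Prop := ∃ v : V, v ≠ 0 ∧ ∀ i, f i v = χ i • v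

theorem card_wt_le [FiniteDimensional K V] (f : ι → End K V) (hf : ∀ i j, Commute (f i) (f j))
    (S : Finset (ι → K)) (hS : ∀ χ ∈ S, IsWt f χ) : S.card ≤ finrank K V := by
  classical
  have hind := independent_iInf_maxGenEigenspace_of_forall_mapsTo f
    (fun i j φ => mapsTo_maxGenEigenspace_of_comm (hf j i) φ)
  choose! v hv using hS
  have hind' : iSupIndep fun χ : S => ⨅ i, (f i).maxGenEigenspace ((χ : ι → K) i) :=
    hind.comp Subtype.val_injective
  have hli : LinearIndependent K (fun χ : S => v χ) := by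
    refine hind'.linearIndependent _ (fun χ => ?_) (fun χ => (hv χ χ.2).1)
    rw [Submodule.mem_iInf]
    intro i
    rw [mem_maxGenEigenspace]
    exact ⟨1, by rw [pow_one, LinearMap.sub_apply, (hv χ χ.2).2 i, LinearMap.smul_apply, End.one_apply, sub_self]⟩
  have := hli.fintype_card_le_finrank
  rwa [Fintype.card_coe] at this

theorem isSemisimple_of_sq [FiniteDimensional K V] (h2 : (2 : K) ≠ 0) {f : End K V} (hf : f * f = 1) :
    f.IsSemisimple := by
  have hsep : (Polynomial.X ^ 2 - 1 : Polynomial K).Separable := by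
    rw [Polynomial.X_pow_sub_one_separable_iff]
    exact_mod_cast h2
  apply isSemisimple_of_squarefree_aeval_eq_zero hsep.squarefree
  simp [pow_two, hf]

theorem iSup_eigenspace_eq_top (h2 : (2 : K) ≠ 0) {f : End K V} (hf : f * f = 1) :
    ⨆ μ, f.eigenspace μ = ⊤ := by
  rw [eq_top_iff]
  intro v _
  have hff : f (f v) = v := by
    have := congrArg (fun g : End K V => g v) hf
    simpa using this
  have h1 : (2 : K)⁻¹ • (v + f v) ∈ f.eigenspace 1 := by
    rw [mem_eigenspace_iff, one_smul, map_smul, map_add, hff, add_comm]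
  have h3 : (2 : K)⁻¹ • (v - f v) ∈ f.eigenspace (-1) := by
    rw [mem_eigenspace_iff, neg_one_smul, map_smul, map_sub, hff, ← smul_neg, neg_sub]
  have h4 : v = (2 : K)⁻¹ • (v + f v) + (2 : K)⁻¹ • (v - f v) := by
    rw [← smul_add, add_add_sub_cancel, ← two_smul K v, smul_smul, inv_mul_cancel₀ h2, one_smul]
  rw [h4]
  exact Submodule.add_mem _ (Submodule.mem_iSup_of_mem 1 h1) (Submodule.mem_iSup_of_mem (-1) h3)

theorem iSup_wt_eq_top [FiniteDimensional K V] (h2 : (2 : K) ≠ 0) (f : ι → End K V)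
    (hf : ∀ i j, Commute (f i) (f j)) (hsq : ∀ i, f i * f i = 1) :
    ⨆ χ : ι → K, ⨅ i, (f i).eigenspace (χ i) = ⊤ := by
  have h1 := iSup_iInf_maxGenEigenspace_eq_top_of_iSup_maxGenEigenspace_eq_top_of_commute f
    (fun i j _ => hf i j) (fun i => by
      rw [(isFinitelySemisimple_iff_isSemisimple.mpr (isSemisimple_of_sq h2 (hsq i))).iSup_maxGenEigenspace_eq_top_iff]
      exact iSup_eigenspace_eq_top h2 (hsq i))
  have h3 : ∀ i μ, (f i).maxGenEigenspace μ = (f i).eigenspace μ := fun i μ =>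
    (isFinitelySemisimple_iff_isSemisimple.mpr (isSemisimple_of_sq h2 (hsq i))).maxGenEigenspace_eq_eigenspace μ
  simpa only [h3] using h1

/-- A family of commuting involutions, `f i ≠ c • 1`: there is a weight with value `≠ c` at `i`. -/
theorem exists_wt_ne [FiniteDimensional K V] (h2 : (2 : K) ≠ 0) (f : ι → End K V)
    (hf : ∀ i j, Commute (f i) (f j)) (hsq : ∀ i, f i * f i = 1) (i : ι) (c : K)
    (hi : f i ≠ c • (1 : End K V)) : ∃ χ, IsWt f χ ∧ χ i ≠ c := by
  by_contra hcon
  push Not at hcon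
  apply hi
  have htop := iSup_wt_eq_top h2 f hf hsq
  have hle : (⨆ χ : ι → K, ⨅ i, (f i).eigenspace (χ i)) ≤ (f i).eigenspace c := by
    apply iSup_le
    intro χ v hv
    rw [Submodule.mem_iInf] at hv
    by_cases hv0 : v = 0
    · rw [hv0]; exact Submodule.zero_mem _
    · have h1 := hcon χ ⟨v, hv0, fun j => by have := hv j; rwa [mem_eigenspace_iff] at this⟩
      rw [← h1]
      exact hv i
  rw [htop, top_le_iff] at hle
  ext v
  have hv : v ∈ (f i).eigenspace c := by rw [hle]; trivial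
  rw [mem_eigenspace_iff] at hv
  rw [hv, LinearMap.smul_apply, End.one_apply]

theorem IsWt.sq_eq {f : ι → End K V} {χ : ι → K} (h : IsWt f χ) {i : ι} (hi : f i * f i = 1) :
    χ i * χ i = 1 := by
  obtain ⟨v, hv, hχ⟩ := h
  have h1 := congrArg (fun g : End K V => g v) hi
  rw [End.mul_apply, hχ, map_smul, hχ, smul_smul, End.one_apply] at h1
  have h2 : (χ i * χ i - 1) • v = 0 := by rw [sub_smul, one_smul, h1, sub_self]
  exact sub_eq_zero.1 ((smul_eq_zero.1 h2).resolve_right hv)

end Cfsg.Agent.H888.C6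
end

-- part: H888/C6/FT
section
/-!
# Representations of a group with a normal elementary abelian 2-subgroup with large orbits (helper888)

`Big A N0` : `A` is a normal elementary abelian 2-subgroup of `Y`, irreducible, and every nontrivial character of `A`
has at least `N0` conjugates under `Y`.

* `Big.linear` : a linear representation of `Y` in characteristic not 2, nontrivial on `A`, has degree `≥ N0`;
* `Big.proj` : a projective representation of degree `m`, nontrivial on `A`: `|A| ≤ m ^ 2` (lifts do not commute) or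
  `2 * N0 ≤ m * (m - 1)` (lifts of `A` commute).
-/

set_option autoImplicit false

namespace Cfsg.Agent.H888.C6

open Module Module.End

/-- Characters of `A` conjugate to `lam` under `Y`. -/
def orbSet {Y : Type*} [Group Y] (A : Subgroup Y) [A.Normal] (lam : A →* ℤˣ) : Set (A →* ℤˣ) :=
  Set.range fun y : Y => lam.comp ((MulAut.conjNormal y : MulAut A) : A →* A)

structure Big {Y : Type*} [Group Y] (A : Subgroup Y) [A.Normal] (N0 : ℕ) : Prop where
  fin : Finite A
  comm : ∀ a b : A, a * b = b * a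
  sq : ∀ a : A, a * a = 1
  irr : ∀ B : Subgroup Y, B ≤ A → (∀ y : Y, ∀ b ∈ B, y * b * y⁻¹ ∈ B) → B = ⊥ ∨ B = A
  orb : ∀ lam : A →* ℤˣ, lam ≠ 1 → N0 ≤ (orbSet A lam).ncard

section

variable {Y : Type*} [Group Y] {A : Subgroup Y} [A.Normal] {N0 : ℕ}
variable {K V : Type*} [Field K] [AddCommGroup V] [Module K V]

theorem units_eq (u : ℤˣ) : u = 1 ∨ u = -1 := Int.units_eq_one_or u

theorem coe_units_inj (h2 : (2 : K) ≠ 0) {u v : ℤˣ} (h : (((u : ℤ) : K)) = ((v : ℤ) : K)) : u = v := by
  rcases units_eq u with rfl | rfl <;> rcases units_eq v with rfl | rfl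
  · rfl
  · exfalso; apply h2; simp only [Units.val_one, Int.cast_one, Units.val_neg, Int.cast_neg] at h
    calc (2 : K) = 1 + 1 := by norm_num
      _ = 0 := by nth_rewrite 1 [h]; ring
  · exfalso; apply h2; simp only [Units.val_one, Int.cast_one, Units.val_neg, Int.cast_neg] at h
    calc (2 : K) = 1 + 1 := by norm_num
      _ = 0 := by nth_rewrite 1 [← h]; ring
  · rfl

theorem exists_unit_of_sq {x : K} (h : x * x = 1) : ∃ u : ℤˣ, ((u : ℤ) : K) = x := by
  rcases mul_self_eq_one_iff.1 h with h | h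
  · exact ⟨1, by simp [h]⟩
  · exact ⟨-1, by simp [h]⟩

/-- **Linear representations.** -/
theorem Big.linear [FiniteDimensional K V] (h : Big A N0) (h2 : (2 : K) ≠ 0) (ρ : Y →* End K V)
    (hne : ∃ a ∈ A, ρ a ≠ 1) : N0 ≤ finrank K V := by
  classical
  obtain ⟨a, ha, hρa⟩ := hne
  have hfin := h.fin
  let f : A → End K V := fun b => ρ (b : Y)
  have hf : ∀ i j, Commute (f i) (f j) := fun i j => by
    change ρ i * ρ j = ρ j * ρ i
    rw [← map_mul, ← map_mul]
    exact congrArg ρ (congrArg Subtype.val (h.comm i j))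
  have hsq : ∀ i, f i * f i = 1 := fun i => by
    change ρ i * ρ i = 1
    rw [← map_mul, ← map_one ρ]
    exact congrArg ρ (congrArg Subtype.val (h.sq i))
  obtain ⟨χ, hχ, hχa⟩ := exists_wt_ne h2 f hf hsq ⟨a, ha⟩ 1 (by rw [one_smul]; exact hρa)
  obtain ⟨v, hv0, hv⟩ := hχ
  have hχsq : ∀ i, χ i * χ i = 1 := fun i => IsWt.sq_eq ⟨v, hv0, hv⟩ (hsq i)
  choose u hu using fun i => exists_unit_of_sq (hχsq i)
  have hmul : ∀ i j, χ (i * j) = χ i * χ j := by
    intro i j
    have h1 : f (i * j) v = f i (f j v) := by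
      change ρ ((i * j : A) : Y) v = ρ i (ρ j v)
      rw [Subgroup.coe_mul, map_mul, End.mul_apply]
    rw [hv, hv, map_smul, hv, smul_smul] at h1
    have h3 : (χ (i * j) - χ j * χ i) • v = 0 := by rw [sub_smul, h1, sub_self]
    rw [sub_eq_zero.1 ((smul_eq_zero.1 h3).resolve_right hv0), mul_comm]
  let lam : A →* ℤˣ := MonoidHom.mk' u (fun i j => coe_units_inj h2 (by
    rw [hu, hmul, Units.val_mul, Int.cast_mul, hu, hu]))
  have hlam : ∀ i, ((lam i : ℤ) : K) = χ i := hu
  have hlam1 : lam ≠ 1 := by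
    intro h1
    apply hχa
    rw [← hlam, h1]; simp
  have h3 := h.orb lam hlam1
  -- the orbit injects into the weights
  have hfinite : (orbSet A lam).Finite := Set.toFinite _
  let e : (A →* ℤˣ) → (A → K) := fun mu i => ((mu i : ℤ) : K)
  have he : Function.Injective e := by
    intro mu nu hmn
    ext i
    have := congrFun hmn i
    exact congrArg _ (coe_units_inj h2 this)
  have h4 := card_wt_le f hf (hfinite.toFinset.image e) (by
    intro ψ hψ
    rw [Finset.mem_image] at hψ
    obtain ⟨mu, hmu, rfl⟩ := hψ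
    rw [Set.Finite.mem_toFinset] at hmu
    obtain ⟨y, rfl⟩ := hmu
    refine ⟨ρ y⁻¹ v, ?_, ?_⟩
    · intro h0
      apply hv0
      have : ρ y (ρ y⁻¹ v) = v := by rw [← End.mul_apply, ← map_mul, mul_inv_cancel, map_one, End.one_apply]
      rw [← this, h0, map_zero]
    · intro i
      change ρ i (ρ y⁻¹ v) = ((lam (MulAut.conjNormal y i) : ℤ) : K) • ρ y⁻¹ v
      rw [hlam, ← map_smul, ← hv]
      change ρ i (ρ y⁻¹ v) = ρ y⁻¹ (ρ ((MulAut.conjNormal y i : A) : Y) v)
      rw [← End.mul_apply, ← End.mul_apply, ← map_mul, ← map_mul, MulAut.conjNormal_apply]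
      congr 2
      group)
  rw [Finset.card_image_of_injective _ he, ← Set.ncard_eq_toFinset_card _ hfinite] at h4
  exact h3.trans h4

end

section Proj

variable {Y : Type*} [Group Y] {A : Subgroup Y} [A.Normal] {N0 : ℕ}
variable {L V : Type*} [Field L] [AddCommGroup V] [Module L V]

/-- Involutive lifts of `A`, with the action of `Y` up to scalars. -/
structure PLift (A : Subgroup Y) [A.Normal] (L V : Type*) [Field L] [AddCommGroup V] [Module L V] where
  h : A → End L V
  sq : ∀ a, h a * h a = 1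
  mul : ∀ a b, ∃ c : L, h a * h b = c • h (a * b)
  act : ∀ y : Y, ∃ u w : End L V, w * u = 1 ∧ u * w = 1 ∧
    ∀ a, ∃ c : L, u * h a = c • (h (MulAut.conjNormal y a) * u)
  ns : ∃ a, ∀ c : L, h a ≠ c • 1

variable (P : PLift A L V)

include P in
theorem PLift.nontriv : Nontrivial V := by
  obtain ⟨a, ha⟩ := P.ns
  by_contra hV
  rw [not_nontrivial_iff_subsingleton] at hV
  exact ha 1 (LinearMap.ext fun v => Subsingleton.elim _ _)

theorem PLift.ne_zero (a : A) : P.h a ≠ 0 := by
  intro h0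
  have := P.nontriv
  have h1 := P.sq a
  rw [h0, mul_zero] at h1
  exact zero_ne_one h1

/-- the commutator sign -/
theorem PLift.exists_sign (hcomm : ∀ a b : A, a * b = b * a) (a b : A) :
    ∃ u : ℤˣ, P.h a * P.h b = ((u : ℤ) : L) • (P.h b * P.h a) := by
  obtain ⟨c, hc⟩ := P.mul a b
  obtain ⟨d, hd⟩ := P.mul b a
  have hd0 : d ≠ 0 := by
    rintro rfl
    rw [zero_smul] at hd
    have h1 : P.h b * (P.h b * P.h a) = P.h a := by rw [← mul_assoc, P.sq, one_mul]
    rw [hd, mul_zero] at h1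
    exact P.ne_zero a h1.symm
  have h1 : P.h a * P.h b = (c * d⁻¹) • (P.h b * P.h a) := by
    rw [hd, hc, hcomm b a, smul_smul, mul_assoc, inv_mul_cancel₀ hd0, mul_one]
  have h2 : (c * d⁻¹) * (c * d⁻¹) = 1 := by
    have h3 : P.h b = ((c * d⁻¹) * (c * d⁻¹)) • P.h b := by
      calc P.h b = P.h a * (P.h a * P.h b) := by rw [← mul_assoc, P.sq, one_mul]
        _ = P.h a * ((c * d⁻¹) • (P.h b * P.h a)) := congrArg (P.h a * ·) h1
        _ = (c * d⁻¹) • ((P.h a * P.h b) * P.h a) := by rw [mul_smul_comm, ← mul_assoc]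
        _ = _ := by rw [h1, smul_mul_assoc, mul_assoc, P.sq, mul_one, smul_smul]
    have h4 : (((c * d⁻¹) * (c * d⁻¹)) - 1) • P.h b = 0 := by rw [sub_smul, one_smul, ← h3, sub_self]
    exact sub_eq_zero.1 ((smul_eq_zero.1 h4).resolve_right (P.ne_zero b))
  obtain ⟨u, hu⟩ := exists_unit_of_sq h2
  exact ⟨u, by rw [hu]; exact h1⟩

/-- commuting lifts -/
def PLift.Comm : Prop := ∀ a b, P.h a * P.h b = P.h b * P.h a

/-- The weights of a commuting lift. -/
theorem PLift.wt_unit {P : PLift A L V} {χ : A → L} (hχ : IsWt P.h χ) : ∃ u : A → ℤˣ, ∀ a, ((u a : ℤ) : L) = χ a := by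
  choose u hu using fun a => exists_unit_of_sq (hχ.sq_eq (P.sq a))
  exact ⟨u, hu⟩

/-- unit-valued weights -/
def PLift.Wt (u : A → ℤˣ) : Prop := IsWt P.h (fun a => ((u a : ℤ) : L))

theorem PLift.wt_mul (h2 : (2 : L) ≠ 0) {P : PLift A L V} {u w : A → ℤˣ} (hu : P.Wt u) (hw : P.Wt w) (a b : A) :
    u (a * b) * w (a * b) = (u a * w a) * (u b * w b) := by
  obtain ⟨c, hc⟩ := P.mul a b
  obtain ⟨v, hv0, hv⟩ := hu
  obtain ⟨v', hv0', hv'⟩ := hw
  have key : ∀ (t : A → ℤˣ) (x : V), x ≠ 0 → (∀ i, P.h i x = ((t i : ℤ) : L) • x) →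
      ((t a : ℤ) : L) * ((t b : ℤ) : L) = c * ((t (a * b) : ℤ) : L) := by
    intro t x hx0 hx
    have h1 : (P.h a * P.h b) x = (c • P.h (a * b)) x := by rw [hc]
    rw [End.mul_apply, hx, map_smul, hx, smul_smul, LinearMap.smul_apply, hx, smul_smul] at h1
    have h3 : (((t b : ℤ) : L) * ((t a : ℤ) : L) - c * ((t (a * b) : ℤ) : L)) • x = 0 := by
      rw [sub_smul, h1, sub_self]
    rw [mul_comm, sub_eq_zero.1 ((smul_eq_zero.1 h3).resolve_right hx0)]
  have h1 := key u v hv0 hv
  have h3 := key w v' hv0' hv'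
  have hsq : ∀ t : ℤˣ, ((t : ℤ) : L) * ((t : ℤ) : L) = 1 := by
    intro t
    rcases units_eq t with rfl | rfl <;> simp
  have hc2 : c * c = 1 := by
    have h4 : (((u a : ℤ) : L) * ((u b : ℤ) : L)) * (((u a : ℤ) : L) * ((u b : ℤ) : L)) = 1 := by
      calc _ = (((u a : ℤ) : L) * ((u a : ℤ) : L)) * (((u b : ℤ) : L) * ((u b : ℤ) : L)) := by ring
        _ = 1 := by rw [hsq, hsq, one_mul]
    rw [h1] at h4
    calc c * c = c * c * (((u (a * b) : ℤ) : L) * ((u (a * b) : ℤ) : L)) := by rw [hsq, mul_one]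
      _ = (c * ((u (a * b) : ℤ) : L)) * (c * ((u (a * b) : ℤ) : L)) := by ring
      _ = 1 := h4
  apply coe_units_inj h2
  push_cast
  calc ((u (a * b) : ℤ) : L) * ((w (a * b) : ℤ) : L)
      = (c * ((u (a * b) : ℤ) : L)) * (c * ((w (a * b) : ℤ) : L)) := by
        calc _ = (c * c) * (((u (a * b) : ℤ) : L) * ((w (a * b) : ℤ) : L)) := by rw [hc2, one_mul]
          _ = _ := by ring
    _ = (((u a : ℤ) : L) * ((u b : ℤ) : L)) * (((w a : ℤ) : L) * ((w b : ℤ) : L)) := by rw [h1, h3]
    _ = _ := by ring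

/-- the product of two weights, a character -/
def PLift.ratio (h2 : (2 : L) ≠ 0) {P : PLift A L V} {u w : A → ℤˣ} (hu : P.Wt u) (hw : P.Wt w) : A →* ℤˣ :=
  MonoidHom.mk' (fun a => u a * w a) (fun a b => PLift.wt_mul h2 hu hw a b)

theorem PLift.act_wt {P : PLift A L V} (y : Y) : ∃ e : A → ℤˣ, ∀ u : A → ℤˣ, P.Wt u →
    P.Wt (fun a => e a * u (MulAut.conjNormal y⁻¹ a)) := by
  obtain ⟨U, W, hWU, hUW, hc⟩ := P.act y
  choose c hc using hc
  -- c a ^ 2 = 1
  have hcc : ∀ a, c a * c a = 1 := by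
    intro a
    have h1 : U * P.h a * W = c a • P.h (MulAut.conjNormal y a) := by
      rw [hc, smul_mul_assoc, mul_assoc, hUW, mul_one]
    have h3 : (U * P.h a * W) * (U * P.h a * W) = 1 := by
      calc _ = U * P.h a * (W * U) * P.h a * W := by simp only [mul_assoc]
        _ = U * (P.h a * P.h a) * W := by rw [hWU, mul_one]; simp only [mul_assoc]
        _ = 1 := by rw [P.sq, mul_one, hUW]
    rw [h1, smul_mul_smul_comm, P.sq] at h3
    have := P.nontriv
    have h4 : (c a * c a - 1) • (1 : End L V) = 0 := by rw [sub_smul, h3, one_smul, sub_self]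
    exact sub_eq_zero.1 ((smul_eq_zero.1 h4).resolve_right one_ne_zero)
  choose e he using fun a => exists_unit_of_sq (hcc a)
  refine ⟨fun a => e (MulAut.conjNormal y⁻¹ a), fun u hu => ?_⟩
  obtain ⟨v, hv0, hv⟩ := hu
  refine ⟨U v, ?_, ?_⟩
  · intro h0
    apply hv0
    have : W (U v) = v := by rw [← End.mul_apply, hWU, End.one_apply]
    rw [← this, h0, map_zero]
  · intro a
    set b : A := MulAut.conjNormal y⁻¹ a with hb
    have hba : MulAut.conjNormal y b = a := by
      rw [hb, ← MulAut.mul_apply, ← map_mul, mul_inv_cancel, map_one, MulAut.one_apply]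
    have h1 : (U * P.h b) v = (c b • (P.h a * U)) v := by rw [hc, hba]
    rw [End.mul_apply, hv, map_smul, LinearMap.smul_apply, End.mul_apply] at h1
    have h3 : P.h a (U v) = c b • ((u b : ℤ) : L) • U v := by
      rw [h1, smul_smul, hcc, one_smul]
    rw [h3, smul_smul, ← he]
    push_cast
    rfl

/-- **Commuting lifts.** -/
theorem Big.comm_case [FiniteDimensional L V] (hB : Big A N0) (h2 : (2 : L) ≠ 0) (P : PLift A L V) (hP : P.Comm) :
    2 * N0 ≤ finrank L V * (finrank L V - 1) := by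
  classical
  have hfin := hB.fin
  obtain ⟨a₀, ha₀⟩ := P.ns
  obtain ⟨χ, hχ, hχa⟩ := exists_wt_ne h2 P.h (fun i j => hP i j) P.sq a₀ 1 (ha₀ 1)
  obtain ⟨ψ, hψ, hψa⟩ := exists_wt_ne h2 P.h (fun i j => hP i j) P.sq a₀ (-1) (ha₀ (-1))
  obtain ⟨u, hu⟩ := PLift.wt_unit hχ
  obtain ⟨w, hw⟩ := PLift.wt_unit hψ
  have hu' : P.Wt u := by
    have : (fun a => ((u a : ℤ) : L)) = χ := funext hu
    rw [PLift.Wt, this]; exact hχ
  have hw' : P.Wt w := by
    have : (fun a => ((w a : ℤ) : L)) = ψ := funext hw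
    rw [PLift.Wt, this]; exact hψ
  set lam : A →* ℤˣ := PLift.ratio h2 hu' hw' with hlam
  have hlam1 : lam ≠ 1 := by
    intro h1
    have h3 : u a₀ * w a₀ = 1 := by
      have := congrArg (fun g : A →* ℤˣ => g a₀) h1
      exact this
    rcases units_eq (u a₀) with h4 | h4
    · apply hχa; rw [← hu, h4]; simp
    · rcases units_eq (w a₀) with h5 | h5
      · rw [h4, h5] at h3; exact absurd h3 (by decide)
      · apply hψa; rw [← hw, h5]; simp
  have hN := hB.orb lam hlam1
  have hfinite : (orbSet A lam).Finite := Set.toFinite _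
  -- the finset of weights
  have hWfin : {t : A → ℤˣ | P.Wt t}.Finite := Set.toFinite _
  set S : Finset (A → ℤˣ) := hWfin.toFinset with hS
  have hmem : ∀ t, t ∈ S ↔ P.Wt t := fun t => by rw [hS, Set.Finite.mem_toFinset]; rfl
  have hScard : S.card ≤ finrank L V := by
    let e : (A → ℤˣ) → (A → L) := fun t a => ((t a : ℤ) : L)
    have he : Function.Injective e := fun t t' htt => funext fun a => coe_units_inj h2 (congrFun htt a)
    have := card_wt_le P.h (fun i j => hP i j) (S.image e) (by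
      intro χ hχ
      rw [Finset.mem_image] at hχ
      obtain ⟨t, ht, rfl⟩ := hχ
      exact (hmem t).1 ht)
    rwa [Finset.card_image_of_injective _ he] at this
  -- pairs
  have hpair : ∀ mu ∈ orbSet A lam, ∃ t s : A → ℤˣ, P.Wt t ∧ P.Wt s ∧ ∀ a, t a * s a = mu a := by
    rintro mu ⟨y, rfl⟩
    obtain ⟨e, he⟩ := P.act_wt y⁻¹
    refine ⟨_, _, he u hu', he w hw', fun a => ?_⟩
    have h3 : MulAut.conjNormal (y⁻¹)⁻¹ a = MulAut.conjNormal y a := by rw [inv_inv]
    change e a * u _ * (e a * w _) = u _ * w _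
    rw [h3]
    have hee : e a * e a = 1 := Int.units_mul_self _
    calc e a * u ((MulAut.conjNormal y) a) * (e a * w ((MulAut.conjNormal y) a))
        = (e a * e a) * (u ((MulAut.conjNormal y) a) * w ((MulAut.conjNormal y) a)) := by
          rw [mul_mul_mul_comm]
      _ = _ := by rw [hee, one_mul]; rfl
  choose! t s ht hs hts using hpair
  have hne : ∀ mu ∈ orbSet A lam, t mu ≠ s mu := by
    intro mu hmu heq
    have h3 : mu = 1 := by
      ext a
      rw [← hts mu hmu a, heq, Int.units_mul_self]; rfl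
    obtain ⟨y, rfl⟩ := hmu
    apply hlam1
    ext a
    have := congrArg (fun g : A →* ℤˣ => g (MulAut.conjNormal y⁻¹ a)) h3
    simp only [MonoidHom.comp_apply, MonoidHom.one_apply] at this
    have h4 : ((MulAut.conjNormal y : MulAut A) : A →* A) (MulAut.conjNormal y⁻¹ a) = a := by
      change (MulAut.conjNormal y) (MulAut.conjNormal y⁻¹ a) = a
      rw [← MulAut.mul_apply, ← map_mul, mul_inv_cancel, map_one, MulAut.one_apply]
    rw [h4] at this
    rw [this]; rfl
  have hcount : (hfinite.toFinset ×ˢ (Finset.univ : Finset Bool)).card ≤ S.offDiag.card := by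
    apply Finset.card_le_card_of_injOn (fun x => if x.2 then (t x.1, s x.1) else (s x.1, t x.1))
    · rintro ⟨mu, b⟩ hx
      rw [Finset.mem_coe, Finset.mem_product, Set.Finite.mem_toFinset] at hx
      have hm := hx.1
      rw [Finset.mem_coe, Finset.mem_offDiag]
      cases b
      · exact ⟨(hmem _).2 (hs mu hm), (hmem _).2 (ht mu hm), (hne mu hm).symm⟩
      · exact ⟨(hmem _).2 (ht mu hm), (hmem _).2 (hs mu hm), hne mu hm⟩
    · rintro ⟨mu, b⟩ hx ⟨nu, b'⟩ hx' heq
      rw [Finset.mem_coe, Finset.mem_product, Set.Finite.mem_toFinset] at hx hx'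
      have hm := hx.1
      have hm' := hx'.1
      have hmn : mu = nu := by
        ext a
        rw [← hts mu hm a, ← hts nu hm' a]
        cases b <;> cases b' <;> simp only [if_true, if_false, Bool.false_eq_true, Prod.mk.injEq] at heq <;>
          rw [heq.1, heq.2] <;> first | rfl | rw [mul_comm]
      subst hmn
      congr 1
      cases b <;> cases b' <;> simp only [if_true, if_false, Bool.false_eq_true, Prod.mk.injEq] at heq
      · rfl
      · exact absurd heq.1.symm (hne mu hm)
      · exact absurd heq.1 (hne mu hm)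
      · rfl
  rw [Finset.card_product, Finset.card_univ, Fintype.card_bool, Finset.offDiag_card,
    ← Set.ncard_eq_toFinset_card _ hfinite] at hcount
  have h5 : S.card * S.card - S.card = S.card * (S.card - 1) := by
    rw [Nat.mul_sub, mul_one]
  rw [h5] at hcount
  calc 2 * N0 ≤ (orbSet A lam).ncard * 2 := by omega
    _ ≤ S.card * (S.card - 1) := hcount
    _ ≤ _ := Nat.mul_le_mul hScard (Nat.sub_le_sub_right hScard 1)

/-- The sign of a pair. -/
theorem PLift.exists_form (hcomm : ∀ a b : A, a * b = b * a) (P : PLift A L V) :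
    ∃ s : A → A → ℤˣ, ∀ a b, P.h a * P.h b = ((s a b : ℤ) : L) • (P.h b * P.h a) :=
  ⟨fun a b => (P.exists_sign hcomm a b).choose, fun a b => (P.exists_sign hcomm a b).choose_spec⟩

theorem PLift.form_mul (h2 : (2 : L) ≠ 0) (P : PLift A L V) {s : A → A → ℤˣ}
    (hs : ∀ a b, P.h a * P.h b = ((s a b : ℤ) : L) • (P.h b * P.h a)) (a b d : A) :
    s (a * b) d = s a d * s b d := by
  obtain ⟨c, hc⟩ := P.mul a b
  have hc0 : c ≠ 0 := by
    rintro rfl
    rw [zero_smul] at hc
    have h1 : P.h a * (P.h a * P.h b) = P.h b := by rw [← mul_assoc, P.sq, one_mul]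
    rw [hc, mul_zero] at h1
    exact P.ne_zero b h1.symm
  have h1 : (P.h a * P.h b) * P.h d = (((s a d : ℤ) : L) * ((s b d : ℤ) : L)) • (P.h d * (P.h a * P.h b)) := by
    rw [mul_assoc, hs b d, mul_smul_comm, ← mul_assoc, hs a d, smul_mul_assoc, mul_assoc, smul_smul, mul_comm]
  have h3 : (P.h a * P.h b) * P.h d = ((s (a * b) d : ℤ) : L) • (P.h d * (P.h a * P.h b)) := by
    rw [hc, smul_mul_assoc, hs, mul_smul_comm, smul_comm]
  have h4 : P.h d * (P.h a * P.h b) ≠ 0 := by
    intro h0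
    rw [hc, mul_smul_comm, smul_eq_zero] at h0
    have h5 : P.h d * (P.h d * P.h (a * b)) = P.h (a * b) := by rw [← mul_assoc, P.sq, one_mul]
    rw [h0.resolve_left hc0, mul_zero] at h5
    exact P.ne_zero _ h5.symm
  apply coe_units_inj h2
  push_cast
  rw [h1] at h3
  have h6 : ((((s a d : ℤ) : L) * ((s b d : ℤ) : L)) - ((s (a * b) d : ℤ) : L)) • (P.h d * (P.h a * P.h b)) = 0 := by
    rw [sub_smul, h3, sub_self]
  exact (sub_eq_zero.1 ((smul_eq_zero.1 h6).resolve_right h4)).symm

theorem PLift.form_symm (h2 : (2 : L) ≠ 0) (P : PLift A L V) {s : A → A → ℤˣ}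
    (hs : ∀ a b, P.h a * P.h b = ((s a b : ℤ) : L) • (P.h b * P.h a)) (a b : A) : s a b = s b a := by
  have h1 : P.h a * P.h b = (((s a b : ℤ) : L) * ((s b a : ℤ) : L)) • (P.h a * P.h b) := by
    rw [← smul_smul, ← hs b a, ← hs a b]
  have h3 : P.h a * P.h b ≠ 0 := by
    intro h0
    have h5 : P.h a * (P.h a * P.h b) = P.h b := by rw [← mul_assoc, P.sq, one_mul]
    rw [h0, mul_zero] at h5
    exact P.ne_zero _ h5.symm
  have h4 : ((((s a b : ℤ) : L) * ((s b a : ℤ) : L)) - 1) • (P.h a * P.h b) = 0 := by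
    rw [sub_smul, one_smul, ← h1, sub_self]
  have h5 := sub_eq_zero.1 ((smul_eq_zero.1 h4).resolve_right h3)
  have h6 : s a b * s b a = 1 := by
    apply coe_units_inj h2
    push_cast
    rw [h5]
  calc s a b = s a b * (s b a * s b a) := by rw [Int.units_mul_self, mul_one]
    _ = s b a := by rw [← mul_assoc, h6, one_mul]

theorem PLift.form_conj (h2 : (2 : L) ≠ 0) (P : PLift A L V) {s : A → A → ℤˣ}
    (hs : ∀ a b, P.h a * P.h b = ((s a b : ℤ) : L) • (P.h b * P.h a)) (y : Y) (a b : A) :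
    s (MulAut.conjNormal y a) (MulAut.conjNormal y b) = s a b := by
  obtain ⟨U, W, hWU, hUW, hc⟩ := P.act y
  choose c hc using hc
  have h0 : ∀ a, P.h (MulAut.conjNormal y a) ≠ 0 := fun a => P.ne_zero _
  have hc0 : ∀ a, c a ≠ 0 := by
    intro a h3
    have h4 := hc a
    rw [h3, zero_smul] at h4
    have h5 : W * (U * P.h a) = P.h a := by rw [← mul_assoc, hWU, one_mul]
    rw [h4, mul_zero] at h5
    exact P.ne_zero a h5.symm
  have key : ∀ a b, U * (P.h a * P.h b) = (c a * c b) •
      ((P.h (MulAut.conjNormal y a) * P.h (MulAut.conjNormal y b)) * U) := by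
    intro a b
    rw [← mul_assoc, hc, smul_mul_assoc, mul_assoc, hc, mul_smul_comm, smul_smul, mul_assoc]
  have h1 := key a b
  rw [hs a b, mul_smul_comm, key b a, hs (MulAut.conjNormal y a), smul_mul_assoc, smul_smul, smul_smul] at h1
  have hne : (P.h (MulAut.conjNormal y b) * P.h (MulAut.conjNormal y a)) * U ≠ 0 := by
    intro h3
    have h4 : P.h (MulAut.conjNormal y b) * P.h (MulAut.conjNormal y a) = 0 := by
      calc _ = (P.h (MulAut.conjNormal y b) * P.h (MulAut.conjNormal y a)) * U * W := by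
            rw [mul_assoc _ U W, hUW, mul_one]
        _ = 0 := by rw [h3, zero_mul]
    have h5 : P.h (MulAut.conjNormal y b) * (P.h (MulAut.conjNormal y b) * P.h (MulAut.conjNormal y a)) =
      P.h (MulAut.conjNormal y a) := by rw [← mul_assoc, P.sq, one_mul]
    rw [h4, mul_zero] at h5
    exact P.ne_zero _ h5.symm
  have h3 : (((s a b : ℤ) : L) * (c b * c a) - c a * c b *
      ((s (MulAut.conjNormal y a) (MulAut.conjNormal y b) : ℤ) : L)) •
      ((P.h (MulAut.conjNormal y b) * P.h (MulAut.conjNormal y a)) * U) = 0 := by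
    rw [sub_smul, h1, sub_self]
  have h4 := sub_eq_zero.1 ((smul_eq_zero.1 h3).resolve_right hne)
  apply coe_units_inj h2
  have h5 : c a * c b ≠ 0 := mul_ne_zero (hc0 a) (hc0 b)
  apply mul_left_cancel₀ h5
  rw [← h4]; ring

/-- **Non-commuting lifts**: the radical is trivial. -/
theorem Big.form_nondeg (hB : Big A N0) (h2 : (2 : L) ≠ 0) (P : PLift A L V) (hP : ¬ P.Comm) {s : A → A → ℤˣ}
    (hs : ∀ a b, P.h a * P.h b = ((s a b : ℤ) : L) • (P.h b * P.h a)) (a : A) (ha : ∀ b, s a b = 1) : a = 1 := by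
  have hmul : ∀ a b d, s (a * b) d = s a d * s b d := P.form_mul h2 hs
  have h1 : ∀ d, s 1 d = 1 := fun d => by
    have h3 := hmul 1 1 d
    rw [mul_one] at h3
    exact (left_eq_mul.1 h3)
  let B : Subgroup A :=
    { carrier := {a | ∀ b, s a b = 1}
      mul_mem' := fun {x y} hx hy b => by rw [hmul, hx b, hy b, mul_one]
      one_mem' := h1
      inv_mem' := fun {x} hx b => by
        have h3 := hmul x⁻¹ x b
        rw [inv_mul_cancel, h1, hx b, mul_one] at h3
        exact h3.symm }
  have hB' : ∀ x : A, x ∈ B ↔ ∀ b, s x b = 1 := fun x => Iff.rfl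
  rcases hB.irr (B.map A.subtype) (Subgroup.map_subtype_le B) (by
      rintro y _ ⟨x, hx, rfl⟩
      refine ⟨MulAut.conjNormal y x, ?_, MulAut.conjNormal_apply y x⟩
      intro b
      have h3 : b = MulAut.conjNormal y (MulAut.conjNormal y⁻¹ b) := by
        rw [← MulAut.mul_apply, ← map_mul, mul_inv_cancel, map_one, MulAut.one_apply]
      rw [h3, P.form_conj h2 hs]
      exact hx _) with h | h
  · have hbot : B = ⊥ := by
      rw [← Subgroup.map_bot A.subtype] at h
      exact Subgroup.map_injective A.subtype_injective h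
    have : a ∈ B := ha
    rw [hbot] at this
    exact this
  · exfalso
    apply hP
    intro x y
    have hx : x ∈ B := by
      have h3 : (x : Y) ∈ B.map A.subtype := by rw [h]; exact x.2
      obtain ⟨x', hx', h4⟩ := h3
      have : x' = x := Subtype.ext h4
      rwa [this] at hx'
    rw [hs, hx y]; simp

theorem Big.noncomm_case [FiniteDimensional L V] (hB : Big A N0) (h2 : (2 : L) ≠ 0) (P : PLift A L V)
    (hP : ¬ P.Comm) : Nat.card A ≤ finrank L V ^ 2 := by
  classical
  have hfin := hB.fin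
  have hft : Fintype A := Fintype.ofFinite A
  obtain ⟨s, hs⟩ := P.exists_form hB.comm
  let F : A → End L (End L V) := fun c => LinearMap.mulLeft L (P.h c) * LinearMap.mulRight L (P.h c)
  have hF : ∀ c X, F c X = P.h c * X * P.h c := fun c X => by
    change P.h c * (X * P.h c) = _
    rw [mul_assoc]
  have hcomm : ∀ i j, Commute (F i) (F j) := by
    intro i j
    change F i * F j = F j * F i
    refine LinearMap.ext fun X => ?_
    change F i (F j X) = F j (F i X)
    rw [hF, hF, hF, hF]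
    have h1 : P.h i * (P.h j * X * P.h j) * P.h i = (P.h i * P.h j) * X * (P.h j * P.h i) := by
      simp only [mul_assoc]
    have h3 : P.h j * (P.h i * X * P.h i) * P.h j = (P.h j * P.h i) * X * (P.h i * P.h j) := by
      simp only [mul_assoc]
    rw [h1, h3, hs i j, smul_mul_assoc, smul_mul_assoc, mul_smul_comm]
  have h4 := card_wt_le F hcomm (Finset.univ.image (fun a : A => fun c : A => ((s a c : ℤ) : L))) (by
    intro χ hχ
    rw [Finset.mem_image] at hχ
    obtain ⟨a, -, rfl⟩ := hχ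
    refine ⟨P.h a, P.ne_zero a, fun c => ?_⟩
    rw [hF, hs c a, smul_mul_assoc, mul_assoc, P.sq, mul_one, P.form_symm h2 hs c a])
  rw [Finset.card_image_of_injective, Finset.card_univ, ← Nat.card_eq_fintype_card, Module.finrank_linearMap,
    ← pow_two] at h4
  · exact h4
  · intro a b hab
    have h5 : ∀ c, s a c = s b c := fun c => coe_units_inj h2 (congrFun hab c)
    have h6 : a * b = 1 := by
      apply hB.form_nondeg h2 P hP hs
      intro c
      rw [P.form_mul h2 hs, h5 c, Int.units_mul_self]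
    have h7 : a = b⁻¹ := eq_inv_of_mul_eq_one_left h6
    rw [h7]
    exact inv_eq_of_mul_eq_one_left (hB.sq b)

/-- **Projective representations.** -/
theorem Big.proj [FiniteDimensional L V] (hB : Big A N0) (h2 : (2 : L) ≠ 0) (P : PLift A L V) :
    Nat.card A ≤ finrank L V ^ 2 ∨ 2 * N0 ≤ finrank L V * (finrank L V - 1) := by
  by_cases hP : P.Comm
  · exact Or.inr (hB.comm_case h2 P hP)
  · exact Or.inl (hB.noncomm_case h2 P hP)

end Proj

end Cfsg.Agent.H888.C6
end

-- part: H888/C6/FTHom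
section
/-!
# Projective representations given by a group of matrices (helper888)

`Big.matrix`: `j : Y →* T'`, `Γ → T'` with scalar kernel, `ρ : Γ →* GL ι K`: the degree bound of `Big.proj`.
-/

set_option autoImplicit false

namespace Cfsg.Agent.H888.C6

open Module Module.End Matrix

section

variable {ι : Type*} [Fintype ι] [DecidableEq ι] {K : Type*} [Field K]

/-- matrices as endomorphisms over the algebraic closure -/
noncomputable def theta (K : Type*) [Field K] (ι : Type*) [Fintype ι] [DecidableEq ι] :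
    Matrix ι ι K →+* End (AlgebraicClosure K) (ι → AlgebraicClosure K) :=
  ((Matrix.toLinAlgEquiv' : Matrix ι ι (AlgebraicClosure K) ≃ₐ[AlgebraicClosure K] _) :
    Matrix ι ι (AlgebraicClosure K) →+* _).comp (algebraMap K (AlgebraicClosure K)).mapMatrix

theorem theta_injective : Function.Injective (theta K ι) := by
  intro M N h
  have h1 : (algebraMap K (AlgebraicClosure K)).mapMatrix M = (algebraMap K (AlgebraicClosure K)).mapMatrix N :=
    (Matrix.toLinAlgEquiv' : Matrix ι ι (AlgebraicClosure K) ≃ₐ[AlgebraicClosure K] _).injective h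
  exact Matrix.map_injective (algebraMap K (AlgebraicClosure K)).injective h1

theorem theta_smul (c : K) (M : Matrix ι ι K) :
    theta K ι (c • M) = (algebraMap K (AlgebraicClosure K) c) • theta K ι M := by
  have h1 : (algebraMap K (AlgebraicClosure K)).mapMatrix (c • M) =
      (algebraMap K (AlgebraicClosure K) c) • (algebraMap K (AlgebraicClosure K)).mapMatrix M := by
    ext i j
    simp [RingHom.mapMatrix_apply, Matrix.smul_apply]
  change (Matrix.toLinAlgEquiv' : Matrix ι ι (AlgebraicClosure K) ≃ₐ[AlgebraicClosure K] _) _ = _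
  rw [h1, map_smul]
  rfl

/-- a scalar endomorphism comes from a scalar matrix -/
theorem exists_scalar_of_theta [Nonempty ι] {M : Matrix ι ι K} {c : AlgebraicClosure K}
    (h : theta K ι M = c • 1) : ∃ d : K, M = d • 1 := by
  have h1 : (algebraMap K (AlgebraicClosure K)).mapMatrix M = c • 1 := by
    apply (Matrix.toLinAlgEquiv' : Matrix ι ι (AlgebraicClosure K) ≃ₐ[AlgebraicClosure K] _).injective
    rw [map_smul, map_one]
    exact h
  obtain ⟨i₀⟩ := ‹Nonempty ι›
  refine ⟨M i₀ i₀, ?_⟩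
  have h3 : ∀ i j, algebraMap K (AlgebraicClosure K) (M i j) = if i = j then c else 0 := by
    intro i j
    have := congrFun (congrFun h1 i) j
    rw [RingHom.mapMatrix_apply, Matrix.map_apply, Matrix.smul_apply, Matrix.one_apply, smul_eq_mul,
      mul_ite, mul_one, mul_zero] at this
    exact this
  ext i j
  rw [Matrix.smul_apply, Matrix.one_apply, smul_eq_mul, mul_ite, mul_one, mul_zero]
  apply (algebraMap K (AlgebraicClosure K)).injective
  rw [h3]
  split_ifs with h
  · rw [h3, if_pos rfl]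
  · rw [map_zero]

variable {Y : Type*} [Group Y] {A : Subgroup Y} [A.Normal] {N0 : ℕ}
variable {T' Γ : Type*} [Group T'] [Group Γ]

/-- The lift attached to a group of matrices. -/
theorem exists_plift [Nonempty ι] (hsq : ∀ a : A, a * a = 1) (j : Y →* T') (hj : ∃ a ∈ A, j a ≠ 1)
    (π : Γ →* T') (hπ : ∀ y, ∃ g, π g = j y) (ρ : Γ →* GL ι K)
    (hker : ∀ g, π g = 1 → ∃ c : K, ((ρ g : GL ι K) : Matrix ι ι K) = c • 1)
    (hsc : ∀ g, (∃ c : K, ((ρ g : GL ι K) : Matrix ι ι K) = c • 1) → π g = 1) :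
    ∃ P : PLift A (AlgebraicClosure K) (ι → AlgebraicClosure K),
      ∀ a : A, ∃ (g : Γ) (t : AlgebraicClosure K), t ≠ 0 ∧ π g = j a ∧ P.h a = t • theta K ι (ρ g) := by
  classical
  choose g hg using hπ
  have hne1 : (1 : End (AlgebraicClosure K) (ι → AlgebraicClosure K)) ≠ 0 := one_ne_zero
  -- squares
  have hsq' : ∀ a : A, ∃ c : K, c ≠ 0 ∧
      ((ρ (g a) : GL ι K) : Matrix ι ι K) * ((ρ (g a) : GL ι K) : Matrix ι ι K) = c • 1 := by
    intro a
    have h1 : π (g a * g a) = 1 := by
      rw [map_mul, hg, ← map_mul, ← Subgroup.coe_mul, hsq, Subgroup.coe_one, map_one]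
    obtain ⟨c, hc⟩ := hker _ h1
    rw [map_mul, Units.val_mul] at hc
    refine ⟨c, ?_, hc⟩
    rintro rfl
    rw [zero_smul] at hc
    have h3 : IsUnit (((ρ (g a) : GL ι K) : Matrix ι ι K) * ((ρ (g a) : GL ι K) : Matrix ι ι K)) :=
      (Units.isUnit _).mul (Units.isUnit _)
    rw [hc] at h3
    exact not_isUnit_zero h3
  choose c hc0 hc using hsq'
  have hroot : ∀ a : A, ∃ t : AlgebraicClosure K, t * t * algebraMap K (AlgebraicClosure K) (c a) = 1 := by
    intro a
    obtain ⟨t, ht⟩ := IsAlgClosed.exists_pow_nat_eq ((algebraMap K (AlgebraicClosure K) (c a))⁻¹) (n := 2) (by norm_num)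
    refine ⟨t, ?_⟩
    rw [← pow_two, ht, inv_mul_cancel₀]
    rw [map_ne_zero]; exact hc0 a
  choose t ht using hroot
  have ht0 : ∀ a, t a ≠ 0 := by
    intro a h0
    have := ht a
    rw [h0, zero_mul, zero_mul] at this
    exact zero_ne_one this
  have hmulρ : ∀ x y : Γ, theta K ι (ρ (x * y)) = theta K ι (ρ x) * theta K ι (ρ y) := by
    intro x y
    rw [map_mul, Units.val_mul, map_mul]
  have hone : theta K ι (ρ (1 : Γ)) = 1 := by rw [map_one, Units.val_one, map_one]
  have hinv : ∀ x : Γ, theta K ι (ρ x) * theta K ι (ρ x⁻¹) = 1 := by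
    intro x; rw [← hmulρ, mul_inv_cancel, hone]
  have hinv' : ∀ x : Γ, theta K ι (ρ x⁻¹) * theta K ι (ρ x) = 1 := by
    intro x; rw [← hmulρ, inv_mul_cancel, hone]
  have hcong : ∀ x y : Γ, π x = π y → ∃ d : AlgebraicClosure K, theta K ι (ρ x) = d • theta K ι (ρ y) := by
    intro x y hxy
    obtain ⟨d, hd⟩ := hker (x * y⁻¹) (by rw [map_mul, map_inv, hxy, mul_inv_cancel])
    refine ⟨algebraMap K _ d, ?_⟩
    calc theta K ι (ρ x) = theta K ι (ρ (x * y⁻¹ * y)) := by rw [inv_mul_cancel_right]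
      _ = _ := by rw [hmulρ, hd, theta_smul, map_one, smul_mul_assoc, one_mul]
  refine ⟨{ h := fun a => t a • theta K ι (ρ (g a)), sq := ?_, mul := ?_, act := ?_, ns := ?_ }, ?_⟩
  · intro a
    change (t a • theta K ι (ρ (g a))) * (t a • theta K ι (ρ (g a))) = 1
    rw [smul_mul_smul_comm, ← map_mul, hc, theta_smul, map_one, smul_smul, ht, one_smul]
  · intro a b
    change ∃ c', (t a • theta K ι (ρ (g a))) * (t b • theta K ι (ρ (g b))) = c' • (t (a * b) • theta K ι (ρ (g (a * b : A))))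
    obtain ⟨d, hd⟩ := hcong (g a * g b) (g (a * b : A)) (by
      rw [map_mul, hg, hg, hg, ← map_mul]; rfl)
    refine ⟨t a * t b * d * (t (a * b))⁻¹, ?_⟩
    rw [smul_mul_smul_comm, ← hmulρ, hd, smul_smul, smul_smul, mul_assoc _ _ (t (a * b)),
      inv_mul_cancel₀ (ht0 _), mul_one]
  · intro y
    refine ⟨theta K ι (ρ (g y)), theta K ι (ρ (g y)⁻¹), hinv' _, hinv _, fun a => ?_⟩
    change ∃ c', theta K ι (ρ (g y)) * (t a • theta K ι (ρ (g a))) =
      c' • ((t (MulAut.conjNormal y a)) • theta K ι (ρ (g (MulAut.conjNormal y a : A))) * theta K ι (ρ (g y)))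
    obtain ⟨d, hd⟩ := hcong (g y * g a) (g (MulAut.conjNormal y a : A) * g y) (by
      rw [map_mul, map_mul, hg, hg, hg, ← map_mul, ← map_mul, MulAut.conjNormal_apply]
      congr 1; group)
    refine ⟨t a * d * (t (MulAut.conjNormal y a))⁻¹, ?_⟩
    rw [mul_smul_comm, ← hmulρ, hd, smul_mul_assoc, ← hmulρ, smul_smul, smul_smul, mul_assoc _ _ (t _),
      inv_mul_cancel₀ (ht0 _), mul_one]
  · obtain ⟨a, ha, hja⟩ := hj
    refine ⟨⟨a, ha⟩, fun c' hc' => hja ?_⟩
    change t ⟨a, ha⟩ • theta K ι (ρ (g a)) = c' • 1 at hc'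
    have h1 : theta K ι (ρ (g a)) = ((t ⟨a, ha⟩)⁻¹ * c') • 1 := by
      rw [← smul_smul, ← hc', smul_smul, inv_mul_cancel₀ (ht0 _), one_smul]
    obtain ⟨d, hd⟩ := exists_scalar_of_theta h1
    rw [← hg]
    exact hsc _ ⟨d, hd⟩
  · intro a
    exact ⟨g a, t a, ht0 a, hg _, rfl⟩

theorem alg_two_ne (h2 : (2 : K) ≠ 0) : (2 : AlgebraicClosure K) ≠ 0 := by
  intro h
  apply h2
  apply (algebraMap K (AlgebraicClosure K)).injective
  rw [map_ofNat, map_zero]; exact h

/-- **Projective representations given by matrices.** -/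
theorem Big.matrix [Nonempty ι] (hB : Big A N0) (h2 : (2 : K) ≠ 0) (j : Y →* T') (hj : ∃ a ∈ A, j a ≠ 1)
    (π : Γ →* T') (hπ : ∀ y, ∃ g, π g = j y) (ρ : Γ →* GL ι K)
    (hker : ∀ g, π g = 1 → ∃ c : K, ((ρ g : GL ι K) : Matrix ι ι K) = c • 1)
    (hsc : ∀ g, (∃ c : K, ((ρ g : GL ι K) : Matrix ι ι K) = c • 1) → π g = 1) :
    Nat.card A ≤ Fintype.card ι ^ 2 ∨ 2 * N0 ≤ Fintype.card ι * (Fintype.card ι - 1) := by
  obtain ⟨P, -⟩ := exists_plift hB.sq j hj π hπ ρ hker hsc
  have := hB.proj (alg_two_ne h2) P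
  rwa [Module.finrank_fintype_fun_eq_card] at this

/-- **Linear representations given by matrices.** -/
theorem Big.matrix_linear (hB : Big A N0) (h2 : (2 : K) ≠ 0) (ρ : Y →* GL ι K) (hj : ∃ a ∈ A, ρ a ≠ 1) :
    N0 ≤ Fintype.card ι := by
  have := hB.linear (V := ι → K) h2
    (((Matrix.toLinAlgEquiv' : Matrix ι ι K ≃ₐ[K] _) : Matrix ι ι K →* End K (ι → K)).comp
      ((Units.coeHom _).comp ρ)) (by
    obtain ⟨a, ha, h⟩ := hj
    refine ⟨a, ha, fun h1 => h ?_⟩
    have h3 : ((ρ a : GL ι K) : Matrix ι ι K) = 1 :=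
      (Matrix.toLinAlgEquiv' : Matrix ι ι K ≃ₐ[K] _).injective (by rw [map_one]; exact h1)
    exact Units.ext h3)
  rwa [Module.finrank_fintype_fun_eq_card] at this

/-- **Permutation representations.** -/
theorem Big.perm (hB : Big A N0) {Ω : Type*} [Fintype Ω] [DecidableEq Ω] (f : Y →* Equiv.Perm Ω)
    (hf : ∃ a ∈ A, f a ≠ 1) : N0 ≤ Fintype.card Ω := by
  have := hB.linear (K := ℚ) (V := Ω → ℚ) (by norm_num)
    { toFun := fun y => LinearMap.funLeft ℚ ℚ (f y).symm
      map_one' := by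
        refine LinearMap.ext fun v => ?_
        funext i
        rw [map_one]
        rfl
      map_mul' := fun x y => by
        refine LinearMap.ext fun v => ?_
        funext i
        rw [map_mul]
        rfl } (by
    obtain ⟨a, ha, h⟩ := hf
    refine ⟨a, ha, fun h1 => h ?_⟩
    ext i
    have h3 := congrArg (fun g : End ℚ (Ω → ℚ) => g (Pi.single i 1) (f a i)) h1
    simp only [MonoidHom.coe_mk, OneHom.coe_mk, LinearMap.funLeft_apply, End.one_apply] at h3
    rw [Equiv.symm_apply_apply, Pi.single_eq_same] at h3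
    by_contra hne
    have hne' : f a i ≠ i := hne
    rw [Pi.single_eq_of_ne hne'] at h3
    exact one_ne_zero h3)
  rwa [Module.finrank_fintype_fun_eq_card] at this

end

end Cfsg.Agent.H888.C6
end

private theorem dce_84ee8fda7a31 : _root_.True := by
  try have : _root_.True := by simp only [_root_.Cfsg.Agent.H888.C6.PLift.Wt.eq_1]
  exact _root_.True.intro
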