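import Cfsg.Agent.H888.C6.Red4
import Cfsg.Agent.GenOrth.Normal
import Cfsg.Agent.S0287
import Cfsg.Agent.S0288
import Cfsg.Agent.ClassicalGeometry.OrthCharTwo
import Cfsg.Agent.LieClassical.OrthFourCommon
import Cfsg.Agent.H912.CrossList_m3
import Cfsg.Prelude.Def_GeometricClasses
import Cfsg.Agent.H62.PPIdx
import Cfsg.Agent.H684.FiltExc
import Cfsg.Agent.H258.Comm
import Cfsg.Agent.PLocal.OffenderStep
import Cfsg.Agent.H888.C6.FTHom
import Cfsg.Agent.H878.KerBase
import Cfsg.Agent.H917.NatRep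
import Cfsg.Agent.H878.PStep
import Cfsg.Agent.H377.OddThree_m3
import Cfsg.Agent.AutOrth.Main
import Cfsg.Agent.LieClassical.OrthCenter
import Cfsg.Agent.LieClassical.OrthSimple
import Cfsg.Agent.ClassicalGeometry.OddInvolutions
import Cfsg.Agent.H925.OrthBasic
import Cfsg.Agent.FastGrp
import Cfsg.Agent.Prune
set_option linter.all false

section
prune_inst 0x7fffa8fffbf879dfffff7e7faefcdffdf9bb5fffefdffdfbffe861ff2fdf63088dc5fbadefe010fe1fb6c21410b87853fbfffeffe26fdc7ffffd5ff41ffbee1ff5f7b50c5195a8341ffc6fff83f07f8e7f3fffffffffffffffffffffffffffbeffbfffffffff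

-- part: H888/C6/Over
section
prune_inst 0x100000000000000000000000010000000000000280000000040000000000000000000000000000000000000000000400000000000080000020000000000006000000000000000000000000000000000000000000000000000
set_option linter.all false
open scoped Cfsg.Agent.FastGrp

-- part: H888/C6/Wcard
section
/-!
# The 2-part of the order of the group generated by products of two transvections (helper888)

`IsQ.pow_dvd_card_Wq : 2 ^ (k (k - 1)) ∣ |Wq q|`.
-/

set_option autoImplicit false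

namespace Cfsg.Agent.H888.C6

open Cfsg Cfsg.Agent.ClassicalGeometry.SympBasic QuadraticMap
open scoped Matrix

variable {k : ℕ} {q : V2 k → ZMod 2}

/-- the quadratic form -/
def IsQ.form (hq : IsQ q) : QuadraticForm (ZMod 2) (V2 k) where
  toFun := q
  toFun_smul a x := by
    rcases z2 a with rfl | rfl
    · rw [zero_smul, hq.zero, mul_zero, zero_smul]
    · rw [one_smul, one_mul, one_smul]
  exists_companion' := ⟨sympBilin k (ZMod 2), fun x y => hq.add x y⟩

theorem IsQ.form_apply (hq : IsQ q) (v : V2 k) : hq.form v = q v := rfl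

theorem IsQ.polar_form (hq : IsQ q) (v w : V2 k) : polar hq.form v w = bf v w := by
  change q (v + w) - q v - q w = bf v w
  rw [hq.add]
  ring

theorem IsQ.nondeg_form (hq : IsQ q) : Cfsg.Agent.LieClassical.OrthCore.Nondeg hq.form := by
  intro x hx
  refine eq_zero_of_forall_sympForm_left fun w => ?_
  have := hx w
  rw [hq.polar_form] at this
  rw [← bf_comm] at this
  exact this

/-- the number of isometries -/
theorem IsQ.pow_dvd_iso (hq : IsQ q) (hk : 1 ≤ k) : 2 ^ (k * (k - 1) + 1) ∣ Nat.card (isometryGroup (ZMod 2) q) := by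
  have hone : ∀ c : ZMod 2, c ≠ 0 → c = 1 := by decide
  have hrank : Module.finrank (ZMod 2) (V2 k) = 2 * k := by
    rw [Module.finrank_fintype_fun_eq_card, Fintype.card_sum, Fintype.card_fin]; ring
  obtain ⟨e0⟩ := Cfsg.Agent.LieClassical.OrthFourCommon.exists_isometryGroup_equiv (LinearEquiv.refl (ZMod 2) (V2 k)) q q
    (fun v => rfl)
  rcases Cfsg.Agent.GenOrth.normal_form (2 * k) hq.nondeg_form hrank with
    ⟨m, hm, -⟩ | ⟨m, hm, c, hc, j, hj⟩ | ⟨m, hm, a, b, hab, c, hc, j, hj⟩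
  · omega
  · obtain rfl : m = k := by omega
    obtain ⟨e1⟩ := Cfsg.Agent.LieClassical.OrthFourCommon.exists_isometryGroup_equiv j (quadFormPlus m (ZMod 2)) q (fun v => by
      have := hj v
      rw [hone c hc, one_mul] at this
      exact this)
    rw [Nat.card_congr (e0.trans e1.symm).toEquiv, S0287.result (ZMod.card 2) m hk, pow_succ']
    exact ((dvd_refl _).mul_right _).mul_right _
  · obtain rfl : m = k - 1 := by omega
    obtain ⟨e1⟩ := Cfsg.Agent.LieClassical.OrthFourCommon.exists_isometryGroup_equiv j (quadFormMinus (k - 1) (ZMod 2) a b) q (fun v => by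
      have := hj v
      rw [hone c hc, one_mul] at this
      exact this)
    rw [Nat.card_congr (e0.trans e1.symm).toEquiv, S0288.result (ZMod.card 2) k hk a b hab, pow_succ']
    exact ((dvd_refl _).mul_right _).mul_right _

/-- the group generated by the transvections -/
def Oq (q : V2 k → ZMod 2) : Subgroup (Sp2 k) := Subgroup.closure {A | ∃ a, q a = 1 ∧ A = tv a}

/-- the inclusion into the general linear group -/
def spGL (k : ℕ) : Sp2 k →* GL (Fin k ⊕ Fin k) (ZMod 2) :=
  MonoidHom.toHomUnits (Submonoid.subtype (Matrix.symplecticGroup (Fin k) (ZMod 2)))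

theorem spGL_val (A : Sp2 k) : (spGL k A : Matrix (Fin k ⊕ Fin k) (Fin k ⊕ Fin k) (ZMod 2)) = A := rfl

theorem spGL_inj : Function.Injective (spGL k) := by
  intro A B h
  apply Subtype.ext
  have := congrArg (fun g : GL (Fin k ⊕ Fin k) (ZMod 2) => (g : Matrix (Fin k ⊕ Fin k) (Fin k ⊕ Fin k) (ZMod 2))) h
  exact this

theorem IsQ.mem_iso (_ : IsQ q) {A : Sp2 k} (hA : ∀ x, q (ac A x) = q x) : spGL k A ∈ isometryGroup (ZMod 2) q :=
  fun u _ => hA u

/-- every isometry is the image of an element of `Oq` -/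
theorem IsQ.map_Oq (hq : IsQ q) (hk : 3 ≤ k) : (Oq q).map (spGL k) = isometryGroup (ZMod 2) q := by
  have hnd : (polarBilin hq.form).Nondegenerate := by
    refine ⟨fun x hx => hq.nondeg_form x hx, fun x hx => hq.nondeg_form x fun y => ?_⟩
    rw [QuadraticMap.polar_comm]
    exact hx y
  have h1 := Cfsg.Agent.ClassicalGeometry.OrthCharTwo.closure_reflections_eq_top hq.form hnd (Or.inr (by
    rw [Fintype.card_sum, Fintype.card_fin]; omega))
  apply le_antisymm
  · rw [Subgroup.map_le_iff_le_comap, Oq, Subgroup.closure_le]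
    rintro _ ⟨a, ha, rfl⟩
    exact hq.mem_iso (hq.q_tv ha)
  · intro g hg
    have h2 : (⟨g, hg⟩ : isometryGroup (ZMod 2) q) ∈ Subgroup.closure
        {g : Cfsg.isometryGroup (ZMod 2) (⇑hq.form) | ∃ v : V2 k, hq.form v ≠ 0 ∧
          ((g : GL (Fin k ⊕ Fin k) (ZMod 2)) : Matrix (Fin k ⊕ Fin k) (Fin k ⊕ Fin k) (ZMod 2)) =
            Cfsg.reflectionMatrix (⇑hq.form) v} := by
      rw [h1]; trivial
    suffices h3 : ∀ y : isometryGroup (ZMod 2) q, y ∈ Subgroup.closure
        {g : Cfsg.isometryGroup (ZMod 2) (⇑hq.form) | ∃ v : V2 k, hq.form v ≠ 0 ∧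
          ((g : GL (Fin k ⊕ Fin k) (ZMod 2)) : Matrix (Fin k ⊕ Fin k) (Fin k ⊕ Fin k) (ZMod 2)) =
            Cfsg.reflectionMatrix (⇑hq.form) v} → (y : GL (Fin k ⊕ Fin k) (ZMod 2)) ∈ (Oq q).map (spGL k) from h3 _ h2
    intro y hy
    induction hy using Subgroup.closure_induction with
    | mem y hy =>
      obtain ⟨v, hv, hy⟩ := hy
      have hv1 : q v = 1 := (z2 (q v)).resolve_left hv
      refine ⟨tv v, Subgroup.subset_closure ⟨v, hv1, rfl⟩, ?_⟩
      apply Units.ext
      rw [hy, spGL_val]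
      apply Matrix.mulVec_injective
      funext x
      rw [Cfsg.Agent.ClassicalGeometry.Reflection.reflectionMatrix_mulVec, hq.polar_form, hq.form_apply, hv1, inv_one, one_mul]
      change ac (tv v) x = _
      rw [ac_tv, bf_comm x v, sub_eq_add_neg]
      congr 1
      exact (neg_eq_of_add_eq_zero_left (v2_two _)).symm
    | one => exact Subgroup.one_mem _
    | mul x y _ _ hx hy => exact Subgroup.mul_mem _ hx hy
    | inv x _ hx => exact Subgroup.inv_mem _ hx

/-- the index of the even subgroup is at most two -/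
theorem IsQ.card_Oq (hq : IsQ q) (hk : 3 ≤ k) : Nat.card (Oq q) = Nat.card (Wq q) ∨ Nat.card (Oq q) = 2 * Nat.card (Wq q) := by
  classical
  have hle : Wq q ≤ Oq q := by
    rw [Wq, Subgroup.closure_le]
    rintro _ ⟨a, b, ha, hb, rfl⟩
    exact Subgroup.mul_mem _ (Subgroup.subset_closure ⟨a, ha, rfl⟩) (Subgroup.subset_closure ⟨b, hb, rfl⟩)
  obtain ⟨w, hw⟩ : ∃ w : V2 k, w ≠ 0 := by
    refine ⟨Pi.single (Sum.inl ⟨0, by omega⟩) 1, ?_⟩
    intro h
    have := congrFun h (Sum.inl ⟨0, by omega⟩)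
    rw [Pi.single_eq_same] at this
    exact z2_ne this
  obtain ⟨a0, -, ha0⟩ := hq.exQ1 hk hw 0 1
  -- every element lies in one of two cosets
  have hnorm : ∀ b, q b = 1 → ∀ x ∈ Wq q, tv b * x * tv b ∈ Wq q := by
    intro b hb x hx
    refine Subgroup.closure_induction (p := fun x _ => tv b * x * tv b ∈ Wq q) ?_ ?_ ?_ ?_ hx
    · rintro _ ⟨c, d, hc, hd, rfl⟩
      have h1 : tv b * (tv c * tv d) * tv b = (tv b * tv c) * (tv d * tv b) := by group
      rw [h1]
      exact Subgroup.mul_mem _ (mem_Wq hb hc) (mem_Wq hd hb)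
    · rw [mul_one, tv_sq]; exact Subgroup.one_mem _
    · intro x y _ _ h1 h3
      have h4 : tv b * (x * y) * tv b = (tv b * x * tv b) * (tv b * y * tv b) := by
        calc tv b * (x * y) * tv b = tv b * x * 1 * y * tv b := by group
          _ = _ := by rw [← tv_sq b]; group
      rw [h4]
      exact Subgroup.mul_mem _ h1 h3
    · intro x _ h1
      have h4 : tv b * x⁻¹ * tv b = (tv b * x * tv b)⁻¹ := by
        rw [mul_inv_rev, mul_inv_rev, tv_inv, mul_assoc]
      rw [h4]
      exact Subgroup.inv_mem _ h1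
  have hcos : ∀ x ∈ Oq q, x ∈ Wq q ∨ x * tv a0 ∈ Wq q := by
    intro x hx
    induction hx using Subgroup.closure_induction with
    | mem y hy =>
      obtain ⟨b, hb, rfl⟩ := hy
      exact Or.inr (mem_Wq hb ha0)
    | one => exact Or.inl (Subgroup.one_mem _)
    | mul x y _ _ hx hy =>
      rcases hx with hx | hx <;> rcases hy with hy | hy
      · exact Or.inl (Subgroup.mul_mem _ hx hy)
      · right
        rw [mul_assoc]
        exact Subgroup.mul_mem _ hx hy
      · right
        have h1 : x * y * tv a0 = (x * tv a0) * (tv a0 * y * tv a0) := by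
          calc x * y * tv a0 = x * 1 * y * tv a0 := by group
            _ = _ := by rw [← tv_sq a0]; group
        rw [h1]
        exact Subgroup.mul_mem _ hx (hnorm a0 ha0 y hy)
      · left
        have h1 : x * y = (x * tv a0) * (tv a0 * (y * tv a0) * tv a0) := by
          calc x * y = x * 1 * y * 1 := by group
            _ = _ := by rw [← tv_sq a0]; group
        rw [h1]
        exact Subgroup.mul_mem _ hx (hnorm a0 ha0 _ hy)
    | inv x _ hx =>
      rcases hx with hx | hx
      · exact Or.inl (Subgroup.inv_mem _ hx)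
      · right
        have h1 : x⁻¹ * tv a0 = tv a0 * (x * tv a0)⁻¹ * tv a0 := by
          rw [mul_inv_rev, tv_inv]
          calc x⁻¹ * tv a0 = 1 * x⁻¹ * tv a0 := by group
            _ = _ := by rw [← tv_sq a0]; group
        rw [h1]
        exact hnorm a0 ha0 _ (Subgroup.inv_mem _ hx)
  have hidx : (Wq q).relIndex (Oq q) ≤ 2 := by
    rw [Subgroup.relIndex, Subgroup.index_eq_card]
    have hsurj : Function.Surjective (fun i : Fin 2 => ((if i = 0 then 1 else
        ⟨tv a0, Subgroup.subset_closure ⟨a0, ha0, rfl⟩⟩ : Oq q) : Oq q ⧸ (Wq q).subgroupOf (Oq q))) := by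
      intro y
      obtain ⟨⟨x, hx⟩, rfl⟩ := QuotientGroup.mk_surjective y
      rcases hcos x hx with h | h
      · refine ⟨0, ?_⟩
        simp only [if_true]
        rw [QuotientGroup.eq, Subgroup.mem_subgroupOf]
        simpa only [_root_.inv_one, _root_.one_mul] using h
      · refine ⟨1, ?_⟩
        simp only [one_ne_zero, if_false]
        rw [QuotientGroup.eq, Subgroup.mem_subgroupOf]
        change (tv a0)⁻¹ * x ∈ Wq q
        rw [tv_inv]
        have h1 : tv a0 * x = tv a0 * (x * tv a0) * tv a0 := by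
          rw [mul_assoc, mul_assoc, tv_sq, mul_one]
        rw [h1]
        exact hnorm a0 ha0 _ h
    have := Nat.card_le_card_of_surjective _ hsurj
    rwa [Nat.card_eq_fintype_card (α := Fin 2), Fintype.card_fin] at this
  have hmul := Subgroup.card_mul_index ((Wq q).subgroupOf (Oq q))
  rw [Nat.card_congr (Subgroup.subgroupOfEquivOfLe hle).toEquiv] at hmul
  have hpos : 0 < (Wq q).relIndex (Oq q) := Nat.pos_of_ne_zero (Subgroup.index_ne_zero_of_finite)
  change _ * (Wq q).relIndex (Oq q) = _ at hmul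
  interval_cases h : (Wq q).relIndex (Oq q)
  · left; omega
  · right; omega

theorem IsQ.pow_dvd_card_Wq (hq : IsQ q) (hk : 3 ≤ k) : 2 ^ (k * (k - 1)) ∣ Nat.card (Wq q) := by
  have h1 := hq.pow_dvd_iso (by omega)
  rw [← hq.map_Oq hk, Nat.card_congr (Subgroup.equivMapOfInjective _ _ spGL_inj).symm.toEquiv] at h1
  rcases hq.card_Oq hk with h | h
  · rw [h] at h1
    exact (pow_dvd_pow 2 (by omega)).trans h1
  · rw [h, pow_succ'] at h1
    exact Nat.dvd_of_mul_dvd_mul_left (by norm_num) h1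

end Cfsg.Agent.H888.C6
end

-- part: H888/C6/YCard
section
/-!
# The 2-part of the order of `Y` modulo scalars (helper888)
-/

set_option autoImplicit false

namespace Cfsg.Agent.H888.C6

open Cfsg Cfsg.Geo Matrix Cfsg.Agent.ClassicalGeometry.SympBasic Cfsg.Agent.H920 Cfsg.Agent.H919

section

variable {G H : Type*} [Group G] [Group H]

/-- counting with a subdirect product -/
theorem card_two_proj (D : Subgroup (G × H)) (A : Subgroup G) (W : Subgroup H)
    (h1 : ∀ p ∈ D, ∀ p' ∈ D, p.1 = p'.1 → p = p') (h2 : ∀ w ∈ W, ∃ g, (g, w) ∈ D) (h3 : ∀ p ∈ D, p.2 ∈ W)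
    (h4 : ∀ a ∈ A, (a, (1 : H)) ∈ D) : Nat.card A * Nat.card W ∣ Nat.card G := by
  have hfst : Function.Injective ((MonoidHom.fst G H).comp D.subtype) := by
    rintro ⟨p, hp⟩ ⟨p', hp'⟩ h
    exact Subtype.ext (h1 p hp p' hp' h)
  have h5 : Nat.card D ∣ Nat.card G := by
    rw [Nat.card_congr (MonoidHom.ofInjective hfst).toEquiv]
    exact Subgroup.card_subgroup_dvd_card _
  refine dvd_trans ?_ h5
  obtain ⟨π, hπ⟩ : ∃ π : D →* H, ∀ x : D, π x = (x : G × H).2 := ⟨(MonoidHom.snd G H).comp D.subtype, fun _ => rfl⟩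
  have hr : π.range = W := by
    ext w
    constructor
    · rintro ⟨x, rfl⟩
      rw [hπ]
      exact h3 x x.2
    · intro hw
      obtain ⟨g, hg⟩ := h2 w hw
      exact ⟨⟨(g, w), hg⟩, hπ _⟩
  have h6 : Nat.card π.ker * Nat.card W = Nat.card D := by
    rw [← hr, ← Subgroup.index_ker, Subgroup.card_mul_index]
  obtain ⟨j, hj⟩ : ∃ j : A →* D, ∀ a : A, (j a : G × H) = ((a : G), 1) :=
    ⟨(MonoidHom.prod A.subtype 1).codRestrict D fun a => h4 a a.2, fun _ => rfl⟩
  have hjk : ∀ a, j a ∈ π.ker := fun a => by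
    rw [MonoidHom.mem_ker, hπ, hj]
  have hji : Function.Injective (j.codRestrict π.ker hjk) := by
    intro a b h
    have h7 : j a = j b := congrArg Subtype.val h
    have h8 := congrArg (fun x : D => (x : G × H).1) h7
    simp only [hj] at h8
    exact Subtype.ext h8
  have h7 : Nat.card A ∣ Nat.card π.ker := by
    rw [Nat.card_congr (MonoidHom.ofInjective hji).toEquiv]
    exact Subgroup.card_subgroup_dvd_card _
  rw [← h6]
  exact Nat.mul_dvd_mul_right h7 _

end

variable {ι : Type} [Fintype ι] [DecidableEq ι] {F : Type*} [Field F] {R : Subgroup (GL ι F)} {k : ℕ}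
variable {C : Coord R 2 k} {q : V2 k → ZMod 2} {Y : Subgroup (GL ι F)}

theorem ind_unique {g : GL ι F} {A B : Sp2 k} (hA : C.Ind g (sm A)) (hB : C.Ind g (sm B)) : A = B := by
  apply ac_ext
  intro v
  obtain ⟨x, rfl⟩ := C.surj v
  obtain ⟨y, h1, h3⟩ := hA x
  obtain ⟨z, h4, h5⟩ := hB x
  have h6 : y = z := Subtype.ext (h1.symm.trans h4)
  change sm A *ᵥ C.φ x = sm B *ᵥ C.φ x
  rw [← h3, ← h5, h6]

theorem ind_self (C : Coord R 2 k) (z : R) : C.Ind (z : GL ι F) (sm (1 : Sp2 k)) := by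
  intro x
  refine ⟨z * x * z⁻¹, by rw [Subgroup.coe_mul, Subgroup.coe_mul, Subgroup.coe_inv], ?_⟩
  rw [C.map_mul, C.map_mul, φ_neg_eq]
  have h5 : C.φ z + C.φ x + C.φ z = C.φ x := by
    rw [add_comm (C.φ z), add_assoc, v2_two, add_zero]
  rw [h5]
  exact (ac_one _).symm

theorem YCore.pow_dvd_card [Finite F] (T : TC C q) [Nonempty ι] (hk : 3 ≤ k) (hY : YCore C q Y) :
    2 ^ (k * (k + 1)) ∣ Nat.card (QY Y) := by
  classical
  have hfin : Finite (GL ι F) := inferInstance
  have hq := T.isQ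
  let D : Subgroup (Y × Sp2 k) :=
    { carrier := {p | p.2 ∈ Wq q ∧ C.Ind (p.1 : GL ι F) (sm p.2)}
      mul_mem' := fun {a b} ha hb => ⟨Subgroup.mul_mem _ ha.1 hb.1, ha.2.mul hb.2⟩
      one_mem' := ⟨Subgroup.one_mem _, Coord.Ind.one C⟩
      inv_mem' := fun {a} ha => ⟨Subgroup.inv_mem _ ha.1, ha.2.invS⟩ }
  obtain ⟨D', hmem⟩ : ∃ D' : Subgroup (QY Y × Sp2 k), ∀ p : QY Y × Sp2 k, p ∈ D' ↔
      ∃ y : Y, p.2 ∈ Wq q ∧ C.Ind (y : GL ι F) (sm p.2) ∧ mkY Y y = p.1 := by
    refine ⟨D.map (MonoidHom.prodMap (mkY Y) (MonoidHom.id _)), fun p => ?_⟩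
    constructor
    · rintro ⟨⟨y, A⟩, ⟨h1, h3⟩, rfl⟩
      exact ⟨y, h1, h3, rfl⟩
    · rintro ⟨y, h1, h3, h4⟩
      exact ⟨(y, p.2), ⟨h1, h3⟩, Prod.ext h4 rfl⟩
  have key : Nat.card (AY R Y) * Nat.card (Wq q) ∣ Nat.card (QY Y) := by
    refine card_two_proj D' (AY R Y) (Wq q) ?_ ?_ ?_ ?_
    · rintro ⟨a, A⟩ ha ⟨b, B⟩ hb hab
      obtain ⟨y, -, h1, h3⟩ := (hmem _).1 ha
      obtain ⟨z, -, h4, h5⟩ := (hmem _).1 hb
      have hab' : a = b := hab
      simp only at h1 h3 h4 h5
      have h6 : (y : GL ι F) * (z : GL ι F)⁻¹ ∈ scalars ι F := mkY_eq.1 (by rw [h3, h5, hab'])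
      have h7 : C.Ind (y : GL ι F) (sm B) := by
        intro x
        obtain ⟨w, hw1, hw2⟩ := h4 x
        refine ⟨w, ?_, hw2⟩
        rw [← hw1]
        have h8 : (y : GL ι F) = ((y : GL ι F) * (z : GL ι F)⁻¹) * z := by group
        rw [h8]
        set s := (y : GL ι F) * (z : GL ι F)⁻¹
        have h9 : s * z * x * (s * z)⁻¹ = s * (z * x * (z : GL ι F)⁻¹) * s⁻¹ := by group
        rw [h9, _root_.Cfsg.Agent.H920.scalars_comm h6, mul_inv_cancel_right]
      rw [hab', ind_unique h1 h7]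
    · intro A hA
      obtain ⟨g, hg, hi⟩ := hY.ind A hA
      exact ⟨mkY Y ⟨g, hg⟩, (hmem _).2 ⟨⟨g, hg⟩, hA, hi, rfl⟩⟩
    · intro p hp
      obtain ⟨y, h1, -, -⟩ := (hmem _).1 hp
      exact h1
    · intro a ha
      obtain ⟨y, hy, rfl⟩ := mem_AY.1 ha
      obtain ⟨z, hz⟩ : ∃ z : R, (z : GL ι F) = (y : GL ι F) := ⟨⟨(y : GL ι F), hy⟩, rfl⟩
      refine (hmem _).2 ⟨y, Subgroup.one_mem _, ?_, rfl⟩
      rw [← hz]
      exact ind_self C z
  rw [card_AY C hY.le] at key
  have h5 := mul_dvd_mul (dvd_refl (2 ^ (2 * k))) (hq.pow_dvd_card_Wq hk)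
  rw [← pow_add] at h5
  refine (pow_dvd_pow 2 ?_).trans (h5.trans key)
  have h6 : k * (k + 1) = k * (k - 1) + 2 * k := by
    obtain ⟨j, rfl⟩ : ∃ j, k = j + 1 := ⟨k - 1, by omega⟩
    rw [Nat.add_sub_cancel]; ring
  omega

end Cfsg.Agent.H888.C6
end

-- part: H888/C6/MatRep
section
/-!
# Projective representations of the core and the linear representation on matrices (helper888)

* `PR.of_end` : a faithful linear representation gives `PR`;
* `pr_matrix` : `P ⧸ scalars` acts faithfully on `n × n` matrices;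
* `pr_core` : the projective representation in dimension `n`, for primes `r` not dividing the order of the scalars.
-/

set_option autoImplicit false

namespace Cfsg.Agent.H888.C6

open Cfsg Cfsg.Geo Cfsg.Agent.H912.Bd

universe u v

theorem PR.of_end {F : Type u} [Field F] {V : Type*} [AddCommGroup V] [Module F V] [FiniteDimensional F V]
    {T : Type u} [Group T] (r : ℕ) (ρ : T →* Module.End F V) (hρ : Function.Injective ρ) :
    PR F (Module.finrank F V) r T := by
  classical
  let b := Module.finBasis F V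
  let f : Module.End F V ≃ₐ[F] Matrix (Fin (Module.finrank F V)) (Fin (Module.finrank F V)) F :=
    LinearMap.toMatrixAlgEquiv b
  let ρ' : T →* Matrix.GeneralLinearGroup (Fin (Module.finrank F V)) F :=
    MonoidHom.toHomUnits ((f : Module.End F V →* Matrix (Fin (Module.finrank F V)) (Fin (Module.finrank F V)) F).comp ρ)
  refine ⟨T, inferInstance, MonoidHom.id T, ρ', fun x => ⟨x, rfl⟩, ?_, ?_, ?_⟩
  · intro x hx y
    have : x = 1 := hx
    rw [this, one_mul, mul_one]
  · have h1 : (MonoidHom.id T).ker = ⊥ := by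
      rw [eq_bot_iff]
      intro x hx
      exact hx
    rw [h1, Subgroup.card_bot]
    exact Nat.coprime_one_left r
  · intro x hx
    have h1 : ρ' x = 1 := hx
    have h2 : f (ρ x) = 1 := congrArg Units.val h1
    have h3 : ρ x = 1 := f.injective (by rw [h2, map_one])
    change x = 1
    exact hρ (h3.trans (map_one ρ).symm)

variable {ι : Type} [Fintype ι] [DecidableEq ι] {F : Type u} [Field F]

/-- conjugation of matrices -/
def cjE : Matrix.GeneralLinearGroup ι F →* Module.End F (Matrix ι ι F) where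
  toFun g :=
    { toFun := fun X => (g : Matrix ι ι F) * X * ((g⁻¹ : Matrix.GeneralLinearGroup ι F) : Matrix ι ι F)
      map_add' := fun X Y => by rw [Matrix.mul_add, Matrix.add_mul]
      map_smul' := fun c X => by rw [Matrix.mul_smul, Matrix.smul_mul, RingHom.id_apply] }
  map_one' := by
    ext X
    simp
  map_mul' g h := by
    refine LinearMap.ext fun X => ?_
    change ((g * h : Matrix.GeneralLinearGroup ι F) : Matrix ι ι F) * X *
      (((g * h)⁻¹ : Matrix.GeneralLinearGroup ι F) : Matrix ι ι F) =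
      (g : Matrix ι ι F) * ((h : Matrix ι ι F) * X * ((h⁻¹ : Matrix.GeneralLinearGroup ι F) : Matrix ι ι F)) *
        ((g⁻¹ : Matrix.GeneralLinearGroup ι F) : Matrix ι ι F)
    rw [mul_inv_rev, Units.val_mul, Units.val_mul]
    simp only [Matrix.mul_assoc]

theorem cjE_apply (g : Matrix.GeneralLinearGroup ι F) (X : Matrix ι ι F) :
    cjE g X = (g : Matrix ι ι F) * X * ((g⁻¹ : Matrix.GeneralLinearGroup ι F) : Matrix ι ι F) := rfl

theorem cjE_eq_one [Nonempty ι] (g : Matrix.GeneralLinearGroup ι F) : cjE g = 1 ↔ g ∈ scalars ι F := by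
  constructor
  · intro h
    have h1 : ∀ X : Matrix ι ι F, (g : Matrix ι ι F) * X = X * (g : Matrix ι ι F) := by
      intro X
      have h2 := congrArg (fun f : Module.End F (Matrix ι ι F) => f X) h
      change (g : Matrix ι ι F) * X * ((g⁻¹ : Matrix.GeneralLinearGroup ι F) : Matrix ι ι F) = X at h2
      calc (g : Matrix ι ι F) * X = (g : Matrix ι ι F) * X *
            (((g⁻¹ : Matrix.GeneralLinearGroup ι F) : Matrix ι ι F) * (g : Matrix ι ι F)) := by
            rw [Units.inv_mul, Matrix.mul_one]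
        _ = X * (g : Matrix ι ι F) := by rw [← Matrix.mul_assoc, h2]
    obtain ⟨c, hc⟩ := Matrix.mem_range_scalar_of_commute_single (M := (g : Matrix ι ι F)) fun i j _ => by
      exact (h1 (Matrix.single i j 1)).symm
    rw [mem_scalars_iff]
    have hc' : (g : Matrix ι ι F) = c • (1 : Matrix ι ι F) := by
      rw [← hc]
      simp [Matrix.smul_one_eq_diagonal]
    have hc0 : c ≠ 0 := by
      rintro rfl
      rw [zero_smul] at hc'
      exact g.ne_zero hc'
    exact ⟨Units.mk0 c hc0, hc'⟩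
  · intro h
    obtain ⟨c, hc⟩ := (mem_scalars_iff g).1 h
    refine LinearMap.ext fun X => ?_
    rw [cjE_apply, hc]
    have h2 : (g : Matrix ι ι F) * X = X * (g : Matrix ι ι F) := by
      rw [hc, Matrix.smul_mul, Matrix.one_mul, Matrix.mul_smul, Matrix.mul_one]
    rw [← hc, h2, Matrix.mul_assoc, Units.mul_inv, Matrix.mul_one]
    rfl

/-- **`P ⧸ scalars` acts faithfully on matrices.** -/
theorem pr_matrix [Nonempty ι] (P : Subgroup (Matrix.GeneralLinearGroup ι F)) (r : ℕ) :
    PR F (Fintype.card ι ^ 2) r (P ⧸ (scalars ι F).subgroupOf P) := by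
  let ρ : (P ⧸ (scalars ι F).subgroupOf P) →* Module.End F (Matrix ι ι F) :=
    QuotientGroup.lift _ (cjE.comp P.subtype) fun x hx => (cjE_eq_one _).2 (Subgroup.mem_subgroupOf.1 hx)
  have hρ : Function.Injective ρ := by
    rw [injective_iff_map_eq_one]
    intro x hx
    obtain ⟨x, rfl⟩ := QuotientGroup.mk_surjective x
    have h1 : cjE (x : Matrix.GeneralLinearGroup ι F) = 1 := hx
    exact (QuotientGroup.eq_one_iff x).2 (Subgroup.mem_subgroupOf.2 ((cjE_eq_one _).1 h1))
  have h := PR.of_end r ρ hρ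
  have h1 : Module.finrank F (Matrix ι ι F) = Fintype.card ι ^ 2 := by
    rw [Module.finrank_matrix, Module.finrank_self, mul_one, sq]
  rwa [h1] at h

/-- **The projective representation of degree `n`.** -/
theorem pr_core (P : Subgroup (Matrix.GeneralLinearGroup ι F)) {r : ℕ}
    (hr : (Nat.card ((scalars ι F).subgroupOf P)).Coprime r) :
    PR F (Fintype.card ι) r (P ⧸ (scalars ι F).subgroupOf P) := by
  classical
  let e : Matrix ι ι F ≃ₐ[F] Matrix (Fin (Fintype.card ι)) (Fin (Fintype.card ι)) F :=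
    Matrix.reindexAlgEquiv F F (Fintype.equivFin ι)
  let ρ : P →* Matrix.GeneralLinearGroup (Fin (Fintype.card ι)) F :=
    (Units.mapEquiv (e : Matrix ι ι F ≃* Matrix (Fin (Fintype.card ι)) (Fin (Fintype.card ι)) F)).toMonoidHom.comp
      P.subtype
  refine ⟨P, inferInstance, QuotientGroup.mk' _, ρ, QuotientGroup.mk'_surjective _, ?_, ?_, ?_⟩
  · intro x hx y
    have h1 := (QuotientGroup.eq_one_iff x).1 hx
    obtain ⟨c, hc⟩ := (mem_scalars_iff _).1 (Subgroup.mem_subgroupOf.1 h1)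
    apply Subtype.ext
    apply Units.ext
    change ((x : Matrix.GeneralLinearGroup ι F) : Matrix ι ι F) * ((y : Matrix.GeneralLinearGroup ι F) : Matrix ι ι F) =
      ((y : Matrix.GeneralLinearGroup ι F) : Matrix ι ι F) * ((x : Matrix.GeneralLinearGroup ι F) : Matrix ι ι F)
    rw [hc, Matrix.smul_mul, Matrix.one_mul, Matrix.mul_smul, Matrix.mul_one]
  · rw [QuotientGroup.ker_mk']
    exact hr
  · intro x hx
    have h1 : ρ x = 1 := hx
    have h2 : (x : Matrix.GeneralLinearGroup ι F) = 1 :=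
      (Units.mapEquiv (e : Matrix ι ι F ≃* Matrix (Fin (Fintype.card ι)) (Fin (Fintype.card ι)) F)).injective
        (by rw [map_one]; exact h1)
    have h3 : x = 1 := Subtype.ext h2
    rw [h3]
    exact Subgroup.one_mem _

end Cfsg.Agent.H888.C6
end

-- part: H888/C6/BT
section
/-!
# Self-centralizing irreducible 2-subgroups of groups with a root group datum (helper888)

`no_F4` : a group with a filtered root group datum of type `F₄` in characteristic 2 has no self-centralizing subgroup of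
order at most `2 ^ 10` on which its normalizer acts irreducibly.
-/

set_option autoImplicit false
set_option linter.unusedSectionVars false

namespace Cfsg.Agent.H888.C6.BT

open CoxeterSystem Cfsg.Agent.ChevalleyStructure.CoxeterGeom Cfsg.Agent.Tits.Roots Cfsg.Agent.Tits.Core
  Cfsg.Agent.Nodes.Reps Cfsg.Agent.Nodes.BNOf Cfsg.Agent.Nodes.Bruhat Cfsg.Agent.Nodes.LeviDec
  Cfsg.Agent.Nodes.StabComb Cfsg.Agent.Nodes.Unique Cfsg.Agent.Nodes.CardSup Cfsg.Agent.H62.PPIdx

section Grp

variable {G : Type*} [Group G] [Finite G] {p : ℕ} [Fact p.Prime]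

/-- `K = V` if `V ≥ K` is a `p`-group normalized by the irreducible group `N`. -/
theorem eq_of_self {K V N : Subgroup G} (hV : IsPGroup p V) (hKV : K ≤ V) (hK1 : K ≠ ⊥)
    (hself : Subgroup.centralizer (K : Set G) ≤ K) (hN : N ≤ Subgroup.normalizer (K : Set G))
    (hNV : N ≤ Subgroup.normalizer (V : Set G))
    (hirr : ∀ B ≤ K, (∀ y ∈ N, ∀ b ∈ B, y * b * y⁻¹ ∈ B) → B = ⊥ ∨ B = K) : K = V := by
  by_contra hne
  have hlt : K < V := lt_of_le_of_ne hKV hne
  have h1 := Cfsg.Agent.H258.Comm.lt_inf_normalizer hV hlt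
  set D : Subgroup G := V ⊓ Subgroup.normalizer (K : Set G) with hD
  have hDp : IsPGroup p D := hV.to_le inf_le_left
  have hKp : IsPGroup p K := hV.to_le hKV
  have h3 := Cfsg.Agent.PLocal.OffenderStep.inf_centralizer_ne_bot K D hKp hDp inf_le_right hK1
  have hDinv : ∀ y ∈ N, ∀ d, d ∈ D ↔ y * d * y⁻¹ ∈ D := by
    intro y hy d
    rw [hD, Subgroup.mem_inf, Subgroup.mem_inf, ← (Subgroup.mem_normalizer_iff.1 (hNV hy) d)]
    refine and_congr Iff.rfl ?_
    constructor
    · intro hd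
      exact mul_mem (mul_mem (hN hy) hd) (inv_mem (hN hy))
    · intro hd
      have := mul_mem (mul_mem (inv_mem (hN hy)) hd) (hN hy)
      have e : y⁻¹ * (y * d * y⁻¹) * y = d := by group
      rwa [e] at this
  rcases hirr (K ⊓ Subgroup.centralizer (D : Set G)) inf_le_left (by
    rintro y hy b ⟨hb1, hb2⟩
    refine ⟨(Subgroup.mem_normalizer_iff.1 (hN hy) b).1 hb1, ?_⟩
    have hb2' := Subgroup.mem_centralizer_iff.1 hb2
    refine Subgroup.mem_centralizer_iff.2 fun d hd => ?_
    have hd' : y⁻¹ * d * y ∈ D := by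
      rw [hDinv y hy]
      have e : y * (y⁻¹ * d * y) * y⁻¹ = d := by group
      rw [e]; exact hd
    have h4 := hb2' _ hd'
    calc d * (y * b * y⁻¹) = y * ((y⁻¹ * d * y) * b) * y⁻¹ := by group
      _ = y * (b * (y⁻¹ * d * y)) * y⁻¹ := by rw [h4]
      _ = y * b * y⁻¹ * d := by group) with h | h
  · exact h3 h
  · have h5 : D ≤ K := by
      refine le_trans ?_ hself
      intro d hd
      refine Subgroup.mem_centralizer_iff.2 fun k hk => ?_
      have hk' : k ∈ K ⊓ Subgroup.centralizer (D : Set G) := by rw [h]; exact hk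
      exact (Subgroup.mem_centralizer_iff.1 hk'.2 d hd).symm
    exact absurd h1 (not_lt_of_ge h5)

end Grp

section

variable {I W Y : Type*} [Fintype I] [DecidableEq I] [Group W] [Group Y] {M : CoxeterMatrix I}
  {cs : CoxeterSystem M W} {A : I → I → ℤ} {h : IsCartan M A} {p : ℕ} {T : Subgroup Y} {n : I → Y}
  {X : (I → ℤ) → Subgroup Y} (R : RGD cs h p T n X)

include R

/-- the order of the unipotent radical is at least `p` to the number of its roots -/
theorem pow_le_card_VJ [Finite W] [Finite Y] [Fact p.Prime] (J : Set I) (S : Finset (I → ℤ))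
    (hS : ∀ x ∈ S, x ∈ NotJ cs h J) : p ^ S.card ≤ Nat.card (VJ cs h X J) := by
  classical
  have hfin : (NotJ cs h J).Finite := (RGD.finite_roots (cs := cs) (h := h)).subset fun _ hx => hx.1
  set s : Finset (I → ℤ) := hfin.toFinset with hs
  have hsc : (s : Set (I → ℤ)) = NotJ cs h J := hfin.coe_toFinset
  have h3 : Nat.card (VJ cs h X J) = ∏ x ∈ s, Nat.card (X x) := by
    have := card_sup R (s := s) (by rw [hsc]; exact fun x hx => ⟨hx.1, hx.2.1⟩) (by rw [hsc]; exact closed_NotJ J)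
    rw [← this, hsc]
    rfl
  have hpX : ∀ x ∈ s, p ≤ Nat.card (X x) := by
    intro x hx
    have hx' : x ∈ NotJ cs h J := by rw [← hsc]; exact hx
    have h1 : IsPGroup p (X x) := R.isPGroup_Upos.to_le (RGD.le_Sup ⟨hx'.1, hx'.2.1⟩)
    have h4 : X x ≠ ⊥ := X_ne_bot R hx'.1
    obtain ⟨m, hm⟩ := (IsPGroup.iff_card (p := p)).1 h1
    have hm0 : m ≠ 0 := by
      rintro rfl
      rw [pow_zero] at hm
      exact h4 (Subgroup.card_eq_one.1 hm)
    rw [hm]
    calc p = p ^ 1 := (pow_one p).symm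
      _ ≤ p ^ m := Nat.pow_le_pow_right (Fact.out : p.Prime).pos (by omega)
  have hSs : S ⊆ s := by
    intro x hx
    have : x ∈ (s : Set (I → ℤ)) := by rw [hsc]; exact hS x hx
    exact this
  rw [h3]
  calc p ^ S.card ≤ p ^ s.card := Nat.pow_le_pow_right (Fact.out : p.Prime).pos (Finset.card_le_card hSs)
    _ = ∏ x ∈ s, p := by rw [Finset.prod_const]
    _ ≤ ∏ x ∈ s, Nat.card (X x) := Finset.prod_le_prod' fun x hx => hpX x hx

end

/-! ### `F₄` -/

/-- Cartan matrix of type `F₄` -/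
def A1 : Fin 4 → Fin 4 → ℤ := ![![2, -1, 0, 0], ![-1, 2, -1, 0], ![0, -2, 2, -1], ![0, 0, -1, 2]]

/-- the dual Cartan matrix -/
def A2 : Fin 4 → Fin 4 → ℤ := ![![2, -1, 0, 0], ![-1, 2, -2, 0], ![0, -1, 2, -1], ![0, 0, -1, 2]]

theorem cartan_cases {A : Fin 4 → Fin 4 → ℤ} (h : IsCartan CoxeterMatrix.F₄ A) : A = A1 ∨ A = A2 := by
  have e01 : CoxeterMatrix.F₄ 0 1 = 3 := by decide
  have e02 : CoxeterMatrix.F₄ 0 2 = 2 := by decide
  have e03 : CoxeterMatrix.F₄ 0 3 = 2 := by decide
  have e12 : CoxeterMatrix.F₄ 1 2 = 4 := by decide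
  have e13 : CoxeterMatrix.F₄ 1 3 = 2 := by decide
  have e23 : CoxeterMatrix.F₄ 2 3 = 3 := by decide
  have h01 := h.rel 0 1 (by decide)
  have h02 := h.rel 0 2 (by decide)
  have h03 := h.rel 0 3 (by decide)
  have h12 := h.rel 1 2 (by decide)
  have h13 := h.rel 1 3 (by decide)
  have h23 := h.rel 2 3 (by decide)
  rw [e01] at h01
  rw [e02] at h02
  rw [e03] at h03
  rw [e12] at h12
  rw [e13] at h13
  rw [e23] at h23
  have d0 := h.diag 0
  have d1 := h.diag 1
  have d2 := h.diag 2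
  have d3 := h.diag 3
  have c01 : A 0 1 = -1 ∧ A 1 0 = -1 := by omega
  have c02 : A 0 2 = 0 ∧ A 2 0 = 0 := by omega
  have c03 : A 0 3 = 0 ∧ A 3 0 = 0 := by omega
  have c13 : A 1 3 = 0 ∧ A 3 1 = 0 := by omega
  have c23 : A 2 3 = -1 ∧ A 3 2 = -1 := by omega
  have c12 : (A 1 2 = -1 ∧ A 2 1 = -2) ∨ (A 1 2 = -2 ∧ A 2 1 = -1) := by (clear * - h12; omega)
  rcases c12 with c12 | c12
  · left
    funext i j
    (revert i j; simp only [A1, d0, d1, d2, d3, c01, c02, c03, c12, c13, c23, _root_.Fin.forall_fin_succ, Int.reduceNeg, _root_.Matrix.cons_val', _root_.Matrix.cons_val_fin_one, Fin.isValue, _root_.Matrix.cons_val_zero, _root_.Matrix.cons_val_succ, _root_.Fin.succ_zero_eq_one, _root_.Fin.succ_one_eq_two, Fin.reduceSucc, _root_.IsEmpty.forall_iff, _root_.and_true, _root_.and_self])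
  · right
    funext i j
    (revert i j; simp only [A2, d0, d1, d2, d3, c01, c02, c03, c12, c13, c23, _root_.Fin.forall_fin_succ, Int.reduceNeg, _root_.Matrix.cons_val', _root_.Matrix.cons_val_fin_one, Fin.isValue, _root_.Matrix.cons_val_zero, _root_.Matrix.cons_val_succ, _root_.Fin.succ_zero_eq_one, _root_.Fin.succ_one_eq_two, Fin.reduceSucc, _root_.IsEmpty.forall_iff, _root_.and_true, _root_.and_self])

/-- simple reflection -/
def rf (A : Fin 4 → Fin 4 → ℤ) (i : Fin 4) (x : Fin 4 → ℤ) : Fin 4 → ℤ :=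
  fun k => if k = i then x i - (A i 0 * x 0 + A i 1 * x 1 + A i 2 * x 2 + A i 3 * x 3) else x k

/-- the root with a given word -/
def vec (A : Fin 4 → Fin 4 → ℤ) (w : List (Fin 4) × Fin 4) : Fin 4 → ℤ := w.1.foldr (rf A) (sr w.2)

/-- the words of the roots of full support -/
def wl : List (List (Fin 4) × Fin 4) :=
  [([3, 2, 1], 0), ([3, 0, 1], 2), ([3, 1, 2, 1], 0), ([2, 3, 0, 1], 2), ([2, 3, 1, 2, 1], 0),
    ([1, 2, 3, 0, 1], 2), ([1, 2, 3, 1, 2, 1], 0), ([2, 1, 2, 3, 0, 1], 2), ([0, 1, 2, 3, 1, 2, 1], 0),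
    ([3, 2, 1, 2, 3, 0, 1], 2)]

theorem chk1 : (∀ w ∈ wl, ∀ k, 0 < vec A1 w k) ∧ (wl.map (vec A1)).Nodup := by decide +kernel

theorem chk2 : (∀ w ∈ wl, ∀ k, 0 < vec A2 w k) ∧ (wl.map (vec A2)).Nodup := by decide +kernel

theorem chk {A : Fin 4 → Fin 4 → ℤ} (h : IsCartan CoxeterMatrix.F₄ A) :
    (∀ w ∈ wl, ∀ k, 0 < vec A w k) ∧ (wl.map (vec A)).Nodup := by
  rcases cartan_cases h with rfl | rfl
  · exact chk1
  · exact chk2

theorem isRoot_vec {W : Type*} [Group W] (cs : CoxeterSystem CoxeterMatrix.F₄ W) {A : Fin 4 → Fin 4 → ℤ}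
    (h : IsCartan CoxeterMatrix.F₄ A) (w : List (Fin 4) × Fin 4) : IsRoot cs h (vec A w) := by
  obtain ⟨l, i⟩ := w
  unfold vec
  induction l with
  | nil => exact isRoot_sr cs h i
  | cons j l ih =>
    have h1 := ih.act (cs.simple j)
    have h2 : rep cs h (cs.simple j) (l.foldr (rf A) (sr i)) = rf A j (l.foldr (rf A) (sr i)) := by
      funext k
      unfold rf
      by_cases hk : k = j
      · subst hk
        rw [rep_simple_apply_self, if_pos rfl]
        unfold pairing
        rw [Fin.sum_univ_four]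
      · rw [rep_simple_apply _ _ _ _ _ hk, if_neg hk]
    rw [h2] at h1
    exact h1

theorem eleven {W : Type*} [Group W] (cs : CoxeterSystem CoxeterMatrix.F₄ W) {A : Fin 4 → Fin 4 → ℤ}
    (h : IsCartan CoxeterMatrix.F₄ A) {J : Set (Fin 4)} (hJ : J ≠ Set.univ) :
    ∃ S : Finset (Fin 4 → ℤ), S.card = 11 ∧ ∀ x ∈ S, x ∈ NotJ cs h J := by
  classical
  obtain ⟨i, hi⟩ := (Set.ne_univ_iff_exists_notMem J).1 hJ
  obtain ⟨h1, h2⟩ := chk h
  refine ⟨insert (sr i) (wl.map (vec A)).toFinset, ?_, ?_⟩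
  · rw [Finset.card_insert_of_notMem, List.toFinset_card_of_nodup h2, List.length_map]
    · rfl
    · intro hm
      rw [List.mem_toFinset, List.mem_map] at hm
      obtain ⟨w, hw, hw'⟩ := hm
      obtain ⟨j, hj⟩ : ∃ j : Fin 4, j ≠ i := exists_ne i
      have h3 := h1 w hw j
      rw [hw', sr_ne hj] at h3
      exact absurd h3 (lt_irrefl _)
  · intro x hx
    rw [Finset.mem_insert, List.mem_toFinset, List.mem_map] at hx
    rcases hx with rfl | ⟨w, hw, rfl⟩
    · exact ⟨isRoot_sr cs h i, sr_nonneg i, i, hi, by rw [sr_self]; exact one_pos⟩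
    · exact ⟨isRoot_vec cs h w, fun k => (h1 w hw k).le, i, hi, h1 w hw i⟩

/-- **Groups of type `F₄` in characteristic 2 have no self-centralizing irreducible subgroup of order at most
`2 ^ 10`.** -/
theorem no_F4 {G : Type*} [Group G] [Finite G] (hG : Cfsg.Agent.H684.FiltClass.FiltD 2 CoxeterMatrix.F₄ G)
    {K N : Subgroup G} (hK : IsPGroup 2 K) (hK1 : K ≠ ⊥) (hself : Subgroup.centralizer (K : Set G) ≤ K)
    (hN : N ≤ Subgroup.normalizer (K : Set G))
    (hirr : ∀ B ≤ K, (∀ y ∈ N, ∀ b ∈ B, y * b * y⁻¹ ∈ B) → B = ⊥ ∨ B = K) : 2 ^ 11 ≤ Nat.card K := by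
  have : Fact (Nat.Prime 2) := ⟨Nat.prime_two⟩
  obtain ⟨A, h, T, n, X, R, F, hW, hX, hF⟩ := hG
  obtain ⟨g, J, hJ, h1, h2⟩ := Cfsg.Agent.KFacts.RgdFilt.borel_tits_of_filt hF hX hK hK1
  have hV : IsPGroup 2 (cj g (VJ CoxeterMatrix.F₄.toCoxeterSystem h X J)) :=
    (R.isPGroup_Upos.to_le (VJ_le_U J)).map _
  have hNV : N ≤ Subgroup.normalizer (cj g (VJ CoxeterMatrix.F₄.toCoxeterSystem h X J) : Set G) := by
    refine (hN.trans h2).trans ?_
    intro x hx
    rw [mem_cj] at hx
    have h3 := Cfsg.Agent.Nodes.LeviDec.PJ_le_normalizer_VJ R J hx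
    rw [Subgroup.mem_normalizer_iff] at h3 ⊢
    intro y
    change y ∈ cj g _ ↔ x * y * x⁻¹ ∈ cj g _
    rw [mem_cj, mem_cj, h3]
    have e : g⁻¹ * x * g * (g⁻¹ * y * g) * (g⁻¹ * x * g)⁻¹ = g⁻¹ * (x * y * x⁻¹) * g := by group
    rw [e]
  have h3 := eq_of_self hV h1 hK1 hself hN hNV hirr
  obtain ⟨S, hS, hS'⟩ := eleven CoxeterMatrix.F₄.toCoxeterSystem h hJ
  rw [h3, card_cj, ← hS]
  exact pow_le_card_VJ R J S hS'

end Cfsg.Agent.H888.C6.BT
end

-- part: H888/C6/Over
section
/-!
# The quasisimple overgroups of `Y` (helper888)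

`Over C q Y P` : `P` is a perfect group with scalars `±1`, simple modulo scalars, containing `Y`.
Consequences for representations of `P / scalars`.
-/

set_option autoImplicit false

namespace Cfsg.Agent.H888.C6

open Cfsg Cfsg.Geo Matrix Cfsg.Agent.ClassicalGeometry.SympBasic Cfsg.Agent.H920 Cfsg.Agent.H919

universe u

variable {ι : Type} [Fintype ι] [DecidableEq ι] {F : Type u} [Field F] {R : Subgroup (GL ι F)} {k : ℕ}
variable {C : Coord R 2 k} {q : V2 k → ZMod 2} {Y P : Subgroup (GL ι F)}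

/-- the quasisimple overgroups of `Y` -/
structure Over (C : Coord R 2 k) (q : V2 k → ZMod 2) (Y P : Subgroup (GL ι F)) : Prop where
  tc : TC C q
  yc : YCore C q Y
  four : 4 ≤ k
  abs : ActsAbsolutelyIrreducibly (matrixSet R)
  card : Fintype.card ι = 2 ^ k
  le : Y ≤ P
  perfect : ⁅P, P⁆ = P
  simple : IsSimpleGroup (QY P)
  nonabelian : ¬ IsMulCommutative (QY P)
  ker : ∀ z ∈ scalars ι F, z ∈ P → (z : Matrix ι ι F) = 1 ∨ (z : Matrix ι ι F) = -1

namespace Over

variable (O : Over C q Y P)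

include O

theorem nonempty : Nonempty ι := by
  apply Fintype.card_pos_iff.1
  rw [O.card]
  exact Nat.two_pow_pos k

/-- `-1 ∈ R` -/
theorem exists_neg : ∃ z : R, ((z : GL ι F) : Matrix ι ι F) = -1 := by
  have hk1 : 1 ≤ k := by have := O.four; omega
  obtain ⟨z, hz⟩ := C.exists_scalar hk1 1
  rw [chi_eq, sF_one, neg_smul, one_smul] at hz
  exact ⟨z, hz⟩

/-- the embedding -/
theorem exists_j : ∃ j : QY Y →* QY P, Function.Injective j ∧
    ∀ y : Y, j (mkY Y y) = mkY P ⟨y, O.le y.2⟩ := by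
  refine ⟨QuotientGroup.map _ _ (Subgroup.inclusion O.le) ?_, ?_, fun y => rfl⟩
  · intro y hy
    rw [Subgroup.mem_comap, Subgroup.mem_subgroupOf]
    exact Subgroup.mem_subgroupOf.1 hy
  · rw [injective_iff_map_eq_one]
    intro x hx
    obtain ⟨y, rfl⟩ := QuotientGroup.mk_surjective x
    rw [QuotientGroup.map_mk, QuotientGroup.eq_one_iff, Subgroup.mem_subgroupOf] at hx
    rw [QuotientGroup.eq_one_iff, Subgroup.mem_subgroupOf]
    exact hx

theorem pow_dvd [Finite F] : 2 ^ (k * (k + 1)) ∣ Nat.card (QY P) := by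
  have := O.nonempty
  have h4 := O.four
  obtain ⟨j, hj, -⟩ := O.exists_j
  refine (O.yc.pow_dvd_card O.tc (by omega)).trans ?_
  rw [Nat.card_congr (MonoidHom.ofInjective hj).toEquiv]
  exact Subgroup.card_subgroup_dvd_card _

/-- a nontrivial element -/
theorem exists_a : ∃ a : AY R Y, a ≠ 1 := by
  have h1 := card_AY C O.yc.le
  have h2 : 1 < Nat.card (AY R Y) := by
    rw [h1]
    exact Nat.one_lt_two_pow (by have := O.four; omega)
  have : Nontrivial (AY R Y) := by
    by_contra hcon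
    rw [not_nontrivial_iff_subsingleton] at hcon
    have h3 : Finite (AY R Y) := Nat.finite_of_card_ne_zero (by omega)
    have h4 : Nat.card (AY R Y) = 1 := Nat.card_eq_one_iff_unique.2 ⟨hcon, ⟨1⟩⟩
    omega
  exact exists_ne 1

theorem commP : commutator P = ⊤ := by
  rw [eq_top_iff]
  have h1 : (commutator P).map P.subtype = P := by
    rw [commutator_def, Subgroup.map_commutator, ← MonoidHom.range_eq_map, Subgroup.range_subtype, O.perfect]
  intro y _
  have h2 : (y : GL ι F) ∈ (commutator P).map P.subtype := by rw [h1]; exact y.2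
  obtain ⟨z, hz, hzy⟩ := h2
  have : z = y := Subtype.ext hzy
  rw [← this]; exact hz

theorem not_away [Finite F] : ¬ H878.Away.{u} 2 (QY P) := by
  rintro ⟨m, hm, hrm⟩
  obtain ⟨z, hz⟩ := O.exists_neg
  have hzP : (z : GL ι F) ∈ P := O.le (O.yc.le z.2)
  have hz1 : (⟨(z : GL ι F), hzP⟩ : P) ∈ (scalars ι F).subgroupOf P := by
    rw [Subgroup.mem_subgroupOf, mem_scalars_iff]
    exact ⟨-1, by rw [Units.val_neg, Units.val_one, neg_smul, one_smul]; exact hz⟩
  have h1 : (⟨(z : GL ι F), hzP⟩ : P) ^ m = 1 := by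
    refine hm P (QuotientGroup.mk' _) (QuotientGroup.mk'_surjective _) ?_ O.commP _ ?_
    · rw [QuotientGroup.ker_mk']
      intro y hy
      rw [Subgroup.mem_center_iff]
      intro g
      rw [Subgroup.mem_subgroupOf] at hy
      exact (Subtype.ext (H920.scalars_comm hy g)).symm
    · rw [QuotientGroup.ker_mk']; exact hz1
  rw [← even_iff_two_dvd, Nat.not_even_iff_odd] at hrm
  obtain ⟨j, rfl⟩ := hrm
  have h2 : ((z : GL ι F) : Matrix ι ι F) ^ (2 * j + 1) = 1 := by
    have := congrArg (fun x : P => ((x : GL ι F) : Matrix ι ι F)) h1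
    exact this
  rw [hz, pow_succ, pow_mul, neg_one_sq, one_pow, one_mul] at h2
  have := O.nonempty
  obtain ⟨i⟩ := this
  have h3 := congrFun (congrFun h2 i) i
  rw [Matrix.neg_apply, Matrix.one_apply_eq] at h3
  exact neg_one_ne O.tc.two h3

/-- representations of `P / scalars` in dimension `2 ^ k` -/
theorem pr [Finite F] {r : ℕ} (hr : r.Prime) (hr2 : r ≠ 2) : H912.Bd.PR F (2 ^ k) r (QY P) := by
  rw [← O.card]
  apply H888.C6.pr_core
  have h2 : IsPGroup 2 ((scalars ι F).subgroupOf P) := by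
    intro x
    refine ⟨1, ?_⟩
    rw [pow_one]
    apply Subtype.ext
    apply Subtype.ext
    apply Units.ext
    have hx := Subgroup.mem_subgroupOf.1 x.2
    have h3 : (((x : P) : GL ι F) : Matrix ι ι F) ^ 2 = 1 := by
      rcases O.ker _ hx (x : P).2 with h | h
      · rw [h, one_pow]
      · rw [h, neg_one_sq]
    exact h3
  have : Fact (Nat.Prime 2) := ⟨Nat.prime_two⟩
  obtain ⟨n, hn⟩ := IsPGroup.iff_card.1 h2
  rw [hn]
  exact Nat.Coprime.pow_left _ ((Nat.coprime_primes Nat.prime_two hr).2 (Ne.symm hr2))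

/-- linear representations of `P / scalars` -/
theorem linear_deg [Finite F] {K : Type*} [Field K] (h2 : (2 : K) ≠ 0) {κ : Type*} [Fintype κ] [DecidableEq κ]
    (ρ : QY P →* GL κ K) (hρ : Function.Injective ρ) : N0 k ≤ Fintype.card κ := by
  have := O.nonempty
  have h4 := O.four
  have := O.yc.fact
  obtain ⟨j, hj, -⟩ := O.exists_j
  refine (O.yc.big O.tc (by omega)).matrix_linear h2 (ρ.comp j) ?_
  obtain ⟨a, ha⟩ := O.exists_a
  exact ⟨a, a.2, fun h => ha (Subtype.ext (hj (hρ (by rw [Subgroup.coe_one, map_one, map_one]; exact h))))⟩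

/-- permutation representations of `P / scalars` -/
theorem perm_deg [Finite F] {Ω : Type*} [Fintype Ω] [DecidableEq Ω]
    (ρ : QY P →* Equiv.Perm Ω) (hρ : Function.Injective ρ) : N0 k ≤ Fintype.card Ω := by
  have := O.nonempty
  have h4 := O.four
  have := O.yc.fact
  obtain ⟨j, hj, -⟩ := O.exists_j
  refine (O.yc.big O.tc (by omega)).perm (ρ.comp j) ?_
  obtain ⟨a, ha⟩ := O.exists_a
  exact ⟨a, a.2, fun h => ha (Subtype.ext (hj (hρ (by rw [Subgroup.coe_one, map_one, map_one]; exact h))))⟩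

/-- natural degree -/
theorem nat_deg [Finite F] {K : Type*} [Field K] (h2 : (2 : K) ≠ 0) {κ : Type} [Fintype κ] [DecidableEq κ]
    [Nonempty κ] (h : H917.NatRep K κ (QY P)) : 2 ^ k ≤ Fintype.card κ := by
  have := O.nonempty
  have h4 := O.four
  have := O.yc.fact
  obtain ⟨θ, hθ⟩ := h
  obtain ⟨j, hj, -⟩ := O.exists_j
  have h1 := (O.yc.big O.tc (by omega)).matrix h2 (θ.comp j) (by
    obtain ⟨a, ha⟩ := O.exists_a
    exact ⟨a, a.2, fun h => ha (Subtype.ext (hj (hθ (by rw [Subgroup.coe_one, map_one, map_one]; exact h))))⟩)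
    (QuotientGroup.mk' (Subgroup.center (GL κ K))) (fun y => QuotientGroup.mk'_surjective _ _) (MonoidHom.id _) (by
      intro g hg
      rw [QuotientGroup.mk'_apply, QuotientGroup.eq_one_iff, Matrix.GeneralLinearGroup.center_eq_range_scalar] at hg
      obtain ⟨c, rfl⟩ := hg
      refine ⟨c, ?_⟩
      change Matrix.scalar κ (c : K) = _
      rw [Matrix.scalar_apply, Matrix.smul_one_eq_diagonal]) (by
      rintro g ⟨c, hc⟩
      rw [QuotientGroup.mk'_apply, QuotientGroup.eq_one_iff]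
      exact H917.mem_center_GL_of_smul hc)
  rw [card_AY C O.yc.le, two_N0 (by omega)] at h1
  by_contra hlt
  push Not at hlt
  rcases h1 with h1 | h1
  · have h3 : Fintype.card κ ^ 2 < (2 ^ k) ^ 2 := Nat.pow_lt_pow_left hlt (by norm_num)
    rw [← pow_mul, mul_comm k 2] at h3
    omega
  · have h16 : 16 ≤ 2 ^ k := by
      calc 16 = 2 ^ 4 := by norm_num
        _ ≤ 2 ^ k := Nat.pow_le_pow_right (by norm_num) h4
    obtain ⟨n, hn⟩ : ∃ n, 2 ^ k = n + 2 := ⟨2 ^ k - 2, by omega⟩
    rw [hn] at h1 hlt h16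
    rw [Nat.add_sub_cancel] at h1
    have h3 : Fintype.card κ * (Fintype.card κ - 1) ≤ (n + 1) * n := Nat.mul_le_mul (by omega) (by omega)
    linarith only [h16, h1, h3]

end Over

end Cfsg.Agent.H888.C6
end

private theorem dce_d5923556149d : _root_.True := by
  try have : _root_.True := by simp only [_root_.Cfsg.Agent.H888.C6.Oq.eq_1]
  try have : _root_.True := by simp only [_root_.Cfsg.Agent.H888.C6.Wq.eq_1]
  try have : _root_.True := by simp only [_root_.Cfsg.Agent.H888.C6.BT.A1.eq_1]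
  try have : _root_.True := by simp only [_root_.Cfsg.Agent.H888.C6.BT.A2.eq_1]
  exact _root_.True.intro
end

-- part: H888/C6/MaxOf
section
set_option linter.all false
open scoped Cfsg.Agent.FastGrp

/-!
# Maximality from the analysis of the quasisimple overgroups (helper888)
-/

set_option autoImplicit false

namespace Cfsg.Agent.H888.C6

open Cfsg Cfsg.Geo Matrix Cfsg.Agent.ClassicalGeometry.SympBasic Cfsg.Agent.H920 Cfsg.Agent.H919

universe u

variable {ι : Type} [Fintype ι] [DecidableEq ι] {F : Type u} [Field F] {R : Subgroup (GL ι F)} {k : ℕ}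
variable {C : Coord R 2 k} {q : V2 k → ZMod 2} {Y : Subgroup (GL ι F)}

/-- **Maximality.** -/
theorem max_of [Finite F] [Nonempty ι] (T : TC C q) (hk : 4 ≤ k) (habs : ActsAbsolutelyIrreducibly (matrixSet R))
    (hR2 : IsPGroup 2 R) (hdim : Fintype.card ι = 2 ^ k) (hY : YCore C q Y) {X : Subgroup (GL ι F)} (hYX : Y ≤ X)
    (hsc : ∀ z ∈ scalars ι F, z ∈ X → (z : Matrix ι ι F) = 1 ∨ (z : Matrix ι ι F) = -1)
    (hsch : ∀ P : Subgroup (GL ι F), IsSimpleGroup (QY P) → ¬ IsMulCommutative (QY P) → Schreier.Basic.Sch (QY P))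
    (hfin : ∀ P : Subgroup (GL ι F), P ≤ X → Over C q Y P → X ≤ P) (hprop : ¬ X ≤ subgroupNormalizer R) :
    IsMaximalIn X (subgroupNormalizer R ⊓ X) := by
  have hYN : Y ≤ subgroupNormalizer R ⊓ X := le_inf hY.norm hYX
  refine ⟨lt_of_le_of_ne inf_le_right fun h => hprop (by rw [← h]; exact inf_le_left), ?_⟩
  intro H hMH hHX
  by_cases hH : H ≤ subgroupNormalizer R
  · exact Or.inl (le_antisymm (le_inf hH hHX) hMH)
  right
  obtain ⟨z, hz⟩ : ∃ z : R, ((z : GL ι F) : Matrix ι ι F) = -1 := by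
    obtain ⟨z, hz⟩ := C.exists_scalar (show 1 ≤ k by omega) 1
    rw [chi_eq, sF_one, neg_smul, one_smul] at hz
    exact ⟨z, hz⟩
  obtain ⟨P, hP⟩ := hY.exists_coreNS T hk habs hR2 hdim (hYN.trans hMH) (by
    intro z' hz' hz'H
    rcases hsc z' hz' (hHX hz'H) with h | h
    · have : z' = 1 := Units.ext h
      rw [this]; exact R.one_mem
    · have : z' = z := Units.ext (h.trans hz.symm)
      rw [this]; exact z.2) hH
  have hYP : Y ≤ P := H878.perfect_le_core hP (hYN.trans hMH) hY.perfect (hsch P hP.simple hP.nonabelian)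
  have O : Over C q Y P := ⟨T, hY, hk, habs, hdim, hYP, hP.perfect, hP.simple, hP.nonabelian,
    fun z hz hzP => hsc z hz (hHX (hP.le hzP))⟩
  exact le_antisymm hHX ((hfin P (hP.le.trans hHX) O).trans hP.le)

/-- the order of the quotient by scalars determines the group -/
theorem eq_of_card_quot [Finite F] {P X : Subgroup (GL ι F)} (hPX : P ≤ X)
    (hsc : ∀ z ∈ scalars ι F, z ∈ X → z ∈ P) (h : Nat.card (QY X) ≤ Nat.card (QY P)) : X ≤ P := by
  have hfin : Finite (GL ι F) := inferInstance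
  have h1 : Nat.card P = Nat.card ((scalars ι F).subgroupOf P) * Nat.card (QY P) := by
    rw [mul_comm]; exact Subgroup.card_eq_card_quotient_mul_card_subgroup _
  have h2 : Nat.card X = Nat.card ((scalars ι F).subgroupOf X) * Nat.card (QY X) := by
    rw [mul_comm]; exact Subgroup.card_eq_card_quotient_mul_card_subgroup _
  have h3 : Nat.card ((scalars ι F).subgroupOf X) ≤ Nat.card ((scalars ι F).subgroupOf P) := by
    apply Nat.card_le_card_of_injective
      (fun x : (scalars ι F).subgroupOf X => (⟨⟨(x : X), hsc _ (Subgroup.mem_subgroupOf.1 x.2) (x : X).2⟩,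
        Subgroup.mem_subgroupOf.2 (Subgroup.mem_subgroupOf.1 x.2)⟩ : (scalars ι F).subgroupOf P))
    intro x y hxy
    apply Subtype.ext
    apply Subtype.ext
    exact congrArg (fun z : (scalars ι F).subgroupOf P => ((z : P) : GL ι F)) hxy
  have h4 : Nat.card X ≤ Nat.card P := by
    rw [h1, h2]
    exact Nat.mul_le_mul h3 h
  exact (Subgroup.eq_of_le_of_card_ge hPX h4).ge

/-- quotients of subgroups by scalars -/
theorem card_quot_dvd {P X : Subgroup (GL ι F)} (hPX : P ≤ X) : Nat.card (QY P) ∣ Nat.card (QY X) := by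
  have hle : (scalars ι F).subgroupOf P ≤ ((scalars ι F).subgroupOf X).comap (Subgroup.inclusion hPX) := by
    intro y hy
    rw [Subgroup.mem_comap, Subgroup.mem_subgroupOf]
    exact Subgroup.mem_subgroupOf.1 hy
  have hinj : Function.Injective (QuotientGroup.map _ _ (Subgroup.inclusion hPX) hle) := by
    rw [injective_iff_map_eq_one]
    intro x hx
    obtain ⟨y, rfl⟩ := QuotientGroup.mk_surjective x
    rw [QuotientGroup.map_mk, QuotientGroup.eq_one_iff, Subgroup.mem_subgroupOf] at hx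
    rw [QuotientGroup.eq_one_iff, Subgroup.mem_subgroupOf]
    exact hx
  rw [Nat.card_congr (MonoidHom.ofInjective hinj).toEquiv]
  exact Subgroup.card_subgroup_dvd_card _

end Cfsg.Agent.H888.C6
end

-- part: H888/C6/PlusFin
section
prune_inst 0x51000007840000000180010200000604a0000020000000040c0080001c9642020012001b2300004029094446038004000000000020800000a000000011c00a0800002048168a000000001000000000000000000000000000000000000000000000000000
set_option linter.all false
open scoped Cfsg.Agent.FastGrp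

/-!
# The group `Ω⁺` (helper888)

Scalars, orders, normal subgroups.
-/

set_option autoImplicit false

namespace Cfsg.Agent.H888.C6

open Cfsg Cfsg.Geo Matrix Cfsg.Agent.ClassicalGeometry.SympBasic Cfsg.Agent.H920 Cfsg.Agent.H919

universe u

section norm

variable {ι : Type} [Fintype ι] [DecidableEq ι] {F : Type u} [Field F] {R : Subgroup (GL ι F)} {k : ℕ}
variable {C : Coord R 2 k} {q : V2 k → ZMod 2} {Y : Subgroup (GL ι F)}

theorem comm_top_of_perfect {G : Type*} [Group G] {P : Subgroup G} (hP : ⁅P, P⁆ = P) : commutator P = ⊤ := by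
  rw [eq_top_iff]
  have h1 : (commutator P).map P.subtype = P := by
    rw [commutator_def, Subgroup.map_commutator, ← MonoidHom.range_eq_map, Subgroup.range_subtype, hP]
  intro y _
  have h2 : (y : G) ∈ (commutator P).map P.subtype := by rw [h1]; exact y.2
  obtain ⟨z, hz, hzy⟩ := h2
  have : z = y := Subtype.ext hzy
  rw [← this]; exact hz

/-- The quasisimple group does not normalise `R`. -/
theorem not_le_norm [Finite F] [Nonempty ι] (T : TC C q) (hk : 1 ≤ k) (hR2 : IsPGroup 2 R) (hY : YCore C q Y)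
    {X : Subgroup (GL ι F)} (hYX : Y ≤ X)
    (hqs : ∀ N ≤ X, (∀ g ∈ X, ∀ x ∈ N, g * x * g⁻¹ ∈ N) → N ≤ scalars ι F ∨ N = X) :
    ¬ X ≤ subgroupNormalizer R := by
  intro hX
  have hv : ∃ v : V2 k, v ≠ 0 :=
    ⟨Pi.single (Sum.inl ⟨0, hk⟩) 1, by
      intro h; have := congrFun h (Sum.inl ⟨0, hk⟩); rw [Pi.single_eq_same] at this; exact z2_ne this⟩
  rcases hqs R (hY.le.trans hYX) (fun g hg x hx => (Subgroup.mem_normalizer_iff.1 (hX hg) x).1 hx) with h | h
  · obtain ⟨v, hv⟩ := hv
    obtain ⟨w, hw⟩ := exists_bf_one hv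
    obtain ⟨x, rfl⟩ := C.surj w
    obtain ⟨y, rfl⟩ := C.surj v
    have h1 := comm_sF C x y
    rw [hw, sF_one, neg_smul, one_smul] at h1
    have h2 : ((x : GL ι F) : Matrix ι ι F) * ((y : GL ι F) : Matrix ι ι F) =
        ((y : GL ι F) : Matrix ι ι F) * ((x : GL ι F) : Matrix ι ι F) := by
      have := H920.scalars_comm (h x.2) (y : GL ι F)
      exact congrArg (fun g : GL ι F => (g : Matrix ι ι F)) this
    rw [h2] at h1
    have h6 : (2 : F) • (((y : GL ι F) : Matrix ι ι F) * ((x : GL ι F) : Matrix ι ι F)) = 0 := by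
      rw [two_smul]
      nth_rewrite 1 [h1]
      exact neg_add_cancel _
    have h7 := (smul_eq_zero.1 h6).resolve_left T.two
    exact ((y : GL ι F) * (x : GL ι F)).ne_zero h7
  · have hYR : Y = R := le_antisymm (hYX.trans h.ge) hY.le
    have hRp : ⁅R, R⁆ = R := by
      have := hY.perfect
      rwa [hYR] at this
    have hfin : Finite (GL ι F) := inferInstance
    have hfR : Finite R := inferInstance
    have : Fact (Nat.Prime 2) := ⟨Nat.prime_two⟩
    have hnil : Group.IsNilpotent R := hR2.isNilpotent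
    have hnt : Nontrivial R := by
      obtain ⟨v, hv⟩ := hv
      obtain ⟨x, hx⟩ := C.surj v
      refine ⟨⟨x, 1, ?_⟩⟩
      rintro rfl
      rw [C.φ_one] at hx
      exact hv hx.symm
    have h1 := Group.IsSolvable.commutator_lt_top_of_nontrivial R
    rw [comm_top_of_perfect hRp] at h1
    exact lt_irrefl _ h1

end norm

section omega

variable {ι : Type} [Fintype ι] [DecidableEq ι] {F : Type u} [Field F]

/-- scalars among the isometries -/
theorem scalar_iso {Q : (ι → F) → F} (hQ : IsNondegenerateQuadraticForm Q) [Nonempty ι] {z : GL ι F}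
    (hz : z ∈ scalars ι F) (hi : z ∈ isometryGroup F Q) : (z : Matrix ι ι F) = 1 ∨ (z : Matrix ι ι F) = -1 := by
  obtain ⟨c, hc⟩ := (mem_scalars_iff _).1 hz
  obtain ⟨i⟩ := ‹Nonempty ι›
  have hex : ∃ v, Q v ≠ 0 := by
    by_contra hcon
    push Not at hcon
    obtain ⟨-, y, hy⟩ := hQ.nondegenerate (Pi.single i 1) (fun h => by
      have := congrFun h i
      rw [Pi.single_eq_same] at this
      exact one_ne_zero this)
    apply hy
    rw [QuadraticMap.polar, hcon, hcon, hcon]
    ring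
  obtain ⟨v, hv⟩ := hex
  have h1 := H925.mem_iso_iff.1 hi v
  rw [hc, Matrix.smul_mulVec, Matrix.one_mulVec, hQ.smul] at h1
  have h2 : ((c : F) ^ 2 - 1) * Q v = 0 := by rw [sub_mul, h1]; ring
  have h3 : (c : F) ^ 2 = 1 := sub_eq_zero.1 ((mul_eq_zero.1 h2).resolve_right hv)
  rcases mul_self_eq_one_iff.1 ((pow_two (c : F)).symm.trans h3) with h | h
  · left; rw [hc, h, one_smul]
  · right; rw [hc, h, neg_smul, one_smul]

/-- normal subgroups of `Ω` -/
theorem qs_omega [Finite F] {Q : (ι → F) → F} (hQ : IsNondegenerateQuadraticForm Q) (hn : 5 ≤ Fintype.card ι) :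
    ∀ N ≤ omegaGL Q, (∀ g ∈ omegaGL Q, ∀ x ∈ N, g * x * g⁻¹ ∈ N) → N ≤ scalars ι F ∨ N = omegaGL Q := by
  intro N hN hnorm
  have hE := H925.map_omegaGL_eq hQ hn
  rcases Cfsg.Agent.LieClassical.OrthSimple.good_normal_dichotomy (H925.good_qf hQ hn)
    (N := N.map (Cfsg.Agent.LieClassical.OrthFinite.glEquiv ι F).toMonoidHom) (by
      rw [← hE]
      exact Subgroup.map_mono hN) (by
      rintro g hg _ ⟨x, hx, rfl⟩
      rw [← hE] at hg
      obtain ⟨g', hg', rfl⟩ := hg
      exact ⟨g' * x * g'⁻¹, hnorm g' hg' x hx, by rw [map_mul, map_mul, map_inv]⟩) with h | h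
  · left
    intro x hx
    obtain ⟨c, hc⟩ := h _ ⟨x, hx, rfl⟩
    rw [mem_scalars_iff]
    have hcv : ∀ v : ι → F, (x : Matrix ι ι F) *ᵥ v = c • v := hc
    have hxc : (x : Matrix ι ι F) = c • (1 : Matrix ι ι F) := by
      apply Matrix.toLin'.injective
      ext1 i
      ext1
      simp only [LinearMap.comp_apply, Matrix.toLin'_apply]
      rw [hcv, Matrix.smul_mulVec, Matrix.one_mulVec]
    have hc0 : c ≠ 0 := by
      rintro rfl
      rw [zero_smul] at hxc
      have h3 : ((x * x⁻¹ : GL ι F) : Matrix ι ι F) = 0 := by rw [Units.val_mul, hxc, Matrix.zero_mul]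
      rw [mul_inv_cancel, Units.val_one] at h3
      have hne : Nonempty ι := Fintype.card_pos_iff.1 (by omega)
      obtain ⟨i⟩ := hne
      have h4 := congrFun (congrFun h3 i) i
      rw [Matrix.one_apply_eq] at h4
      exact one_ne_zero h4
    exact ⟨Units.mk0 c hc0, hxc⟩
  · right
    rw [← hE] at h
    exact Subgroup.map_injective (Cfsg.Agent.LieClassical.OrthFinite.glEquiv ι F).injective h

/-- perfect groups of isometries -/
theorem le_omega {Q : (ι → F) → F} {A : Subgroup (GL ι F)} (hA : ⁅A, A⁆ = A) (h3 : A ≤ isometryGroup F Q) :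
    A ≤ omegaGL Q := by
  rw [← hA, Subgroup.commutator_le]
  intro a ha b hb
  exact H925.commutator_mem_omegaGL (h3 ha) (h3 hb)

theorem omega_le_iso (Q : (ι → F) → F) : omegaGL Q ≤ isometryGroup F Q := H925.omegaGL_le_iso Q

/-- `Ω` modulo scalars is `PΩ` -/
theorem card_QY_omega [Finite F] {Q : (ι → F) → F} (hQ : IsNondegenerateQuadraticForm Q) (hn : 5 ≤ Fintype.card ι) :
    Nat.card (QY (omegaGL Q)) = Nat.card (POmega F Q) := by
  have hne : Nonempty ι := Fintype.card_pos_iff.1 (by omega)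
  have hG := H925.good_qf hQ hn
  have hnd : (QuadraticMap.polarBilin (H925.qf hQ)).Nondegenerate := by
    exact ⟨fun x hx => hG.nondeg x hx, fun x hx => hG.nondeg x fun y => by
      rw [QuadraticMap.polar_comm]
      exact hx y⟩
  have hcen : ∀ z : Omega F Q, z ∈ Subgroup.center (Omega F Q) ↔
      (((z : isometryGroup F Q) : GL ι F) : Matrix ι ι F) = 1 ∨ (((z : isometryGroup F Q) : GL ι F) : Matrix ι ι F) = -1 :=
    fun z => Cfsg.Agent.LieClassical.OrthCenter.mem_center_omega_iff (Q := H925.qf hQ) hnd (by omega) hG.sing z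
  let e : Omega F Q ≃* omegaGL Q :=
    Subgroup.equivMapOfInjective (Omega F Q) (isometryGroup F Q).subtype (Subgroup.subtype_injective _)
  have he : ∀ z : Omega F Q, ((e z : omegaGL Q) : GL ι F) = ((z : isometryGroup F Q) : GL ι F) := fun z => rfl
  have hmap : (Subgroup.center (Omega F Q)).map e.toMonoidHom = (scalars ι F).subgroupOf (omegaGL Q) := by
    ext x
    constructor
    · rintro ⟨z, hz, rfl⟩
      rw [Subgroup.mem_subgroupOf, mem_scalars_iff]
      rcases (hcen z).1 hz with h | h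
      · exact ⟨1, by rw [Units.val_one, one_smul]; exact h⟩
      · exact ⟨-1, by rw [Units.val_neg, Units.val_one, neg_smul, one_smul]; exact h⟩
    · intro hx
      refine ⟨e.symm x, ?_, e.apply_symm_apply x⟩
      rw [SetLike.mem_coe, hcen]
      have h1 : (((e.symm x : Omega F Q) : isometryGroup F Q) : GL ι F) = (x : GL ι F) := by
        rw [← he, e.apply_symm_apply]
      rw [h1]
      exact scalar_iso hQ (Subgroup.mem_subgroupOf.1 hx) (omega_le_iso Q x.2)
  exact (Nat.card_congr (QuotientGroup.congr _ _ e hmap).toEquiv).symm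

open Cfsg.Agent.LieClassical.QuadForms in
/-- forms of plus type are standard -/
theorem exists_plus_equiv [Finite F] {n m : ℕ} (hm : 1 ≤ m) (hn : n = 2 * m) {Q : (Fin n → F) → F}
    (hQ : IsNondegenerateQuadraticForm Q) (hplus : IsPlusTypeOn Q ⊤) :
    ∃ e : (Fin m ⊕ Fin m → F) ≃ₗ[F] (Fin n → F), ∀ u, Q (e u) = quadFormPlus m F u := by
  have hrank : Module.finrank F (Fin n → F) = 2 * m := by
    rw [Module.finrank_fintype_fun_eq_card, Fintype.card_fin, hn]
  rcases Cfsg.Agent.H377.classify_all hm hrank (H925.qf hQ) (H925.nondeg_qf hQ) with h | ⟨ζ, hζ, e, he⟩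
  · exact h
  · exfalso
    obtain ⟨U, -, hU, hd⟩ := hplus
    rw [finrank_top, hrank] at hd
    have hW : ∀ w ∈ U.comap (e : (((Fin (m - 1) ⊕ Fin (m - 1)) ⊕ Fin 2 → F) →ₗ[F] (Fin n → F))),
        minusForm (m - 1) F 1 ζ w = 0 := by
      intro w hw
      rw [coe_minusForm, ← he w]
      exact hU _ hw
    have h1 := Cfsg.Agent.AutOrth.Main.finrank_le_of_TS_minus (m - 1) 1 ζ hζ hW
    have h2 : Module.finrank F (U.comap (e : (((Fin (m - 1) ⊕ Fin (m - 1)) ⊕ Fin 2 → F) →ₗ[F] (Fin n → F)))) =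
        Module.finrank F U := by
      have h3 := LinearEquiv.finrank_eq (e.symm.submoduleMap U)
      rw [h3]
      suffices h4 : U.comap (e : (((Fin (m - 1) ⊕ Fin (m - 1)) ⊕ Fin 2 → F) →ₗ[F] (Fin n → F))) =
          U.map (e.symm : (Fin n → F) →ₗ[F] ((Fin (m - 1) ⊕ Fin (m - 1)) ⊕ Fin 2 → F)) by rw [h4]
      ext x
      rw [Submodule.mem_comap, Submodule.mem_map]
      constructor
      · intro hx
        exact ⟨e x, hx, e.symm_apply_apply x⟩
      · rintro ⟨y, hy, rfl⟩
        change e (e.symm y) ∈ U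
        rw [e.apply_symm_apply]; exact hy
    omega

/-- the order of `PΩ⁺` -/
theorem card_pomega_plus [Finite F] {n m : ℕ} (hm : 1 ≤ m) (hn : n = 2 * m) {Q : (Fin n → F) → F}
    (hQ : IsNondegenerateQuadraticForm Q) (hplus : IsPlusTypeOn Q ⊤) :
    Nat.card (POmega F Q) = Nat.card (POmega F (quadFormPlus m F)) := by
  obtain ⟨e, he⟩ := exists_plus_equiv hm hn hQ hplus
  obtain ⟨e1⟩ := Cfsg.Agent.LieClassical.OrthFourCommon.exists_isometryGroup_equiv e (quadFormPlus m F) Q he
  obtain ⟨e2⟩ := Cfsg.Agent.LieClassical.OrthFourCommon.exists_isometryGroup_equiv (LinearEquiv.refl F (Fin n → F)) Q Q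
    (fun _ => rfl)
  obtain ⟨e3⟩ := Cfsg.Agent.ClassicalGeometry.OddInvolutions.commutator_quot_center_congr (e2.trans e1.symm)
  exact Nat.card_congr e3.toEquiv

end omega

end Cfsg.Agent.H888.C6
end
end
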