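import Cfsg.Agent.H912.CrossList_m3
import Cfsg.Agent.S1704
import Cfsg.Agent.BabyM.Instance
import Cfsg.Agent.BM.Fi22O_m3
import Cfsg.Prelude.Def_Spor_B
import Cfsg.Agent.Prune
set_option linter.all false
prune_inst 0x7f00000000000000000000000000000000000000000000000000000000000000000000000000000000000000000000000000000000000000000000000000000000000000000000000000000000000000003fffffffffffffffffffffffffffbeffbdffffffff
open scoped Cfsg.Agent.FastGrp

/-!
# Linear representations of the Baby Monster in odd characteristic have degree at least `2 ^ 11` (helper888)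
-/

set_option autoImplicit false

namespace Cfsg.Agent.H888.C6

open Cfsg Cfsg.Agent.H912.Bd Cfsg.Agent.BabyM

universe u v

theorem bd_model {F : Type u} [Field F] (h2 : (2 : F) ≠ 0) : Bd F 2 (2 ^ 11) Inst.M.G := by
  have A := Instance.all
  have hQG : Inst.M.Q ≤ Inst.M.G := A.grp.Q_le.trans A.C_le_G
  have hzG : Inst.M.z ∈ Inst.M.G := hQG A.grp.z_mem
  have hz2 : (⟨Inst.M.z, hzG⟩ : Inst.M.G) ^ 2 = 1 := Subtype.ext (by
    change Inst.M.z ^ 2 = 1
    rw [sq]; exact A.grp.z_sq)
  have hz1 : (⟨Inst.M.z, hzG⟩ : Inst.M.G) ≠ 1 := fun h => A.grp.z_ne (congrArg Subtype.val h)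
  have hzo : orderOf (⟨Inst.M.z, hzG⟩ : Inst.M.G) = 2 := orderOf_eq_prime hz2 hz1
  have hmem : ∀ g : Inst.M.G, g ∈ Inst.M.Q.subgroupOf Inst.M.G ↔ g.1 ∈ Inst.M.Q := fun g => Subgroup.mem_subgroupOf
  refine bd_of_extraspecial' (F := F) (r := 2) (k := 11) Nat.prime_two (by exact_mod_cast h2)
    (Inst.M.Q.subgroupOf Inst.M.G) ?_ hzo ((hmem _).2 A.grp.z_mem) ?_ ?_ ?_
  · rw [Nat.card_congr (Subgroup.subgroupOfEquivOfLe hQG).toEquiv, A.grp.Q_card]
  · intro x hx
    apply Subtype.ext
    exact A.grp.z_comm _ (A.grp.Q_le ((hmem x).1 hx))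
  · intro x hx y hy
    rcases A.grp.Q_comm _ ((hmem x).1 hx) _ ((hmem y).1 hy) with h | h
    · have h1 : x * y * x⁻¹ * y⁻¹ = 1 := by
        rw [mul_inv_eq_one, mul_inv_eq_iff_eq_mul]
        exact Subtype.ext h
      rw [h1]; exact Subgroup.one_mem _
    · have h1 : x * y * x⁻¹ * y⁻¹ = ⟨Inst.M.z, hzG⟩ := by
        rw [mul_inv_eq_iff_eq_mul, mul_inv_eq_iff_eq_mul]
        apply Subtype.ext
        change x.1 * y.1 = Inst.M.z * y.1 * x.1
        rw [h, ← A.grp.z_comm _ (A.grp.Q_le ((hmem y).1 hy)), mul_assoc, mul_assoc,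
          ← A.grp.z_comm _ (A.grp.Q_le ((hmem x).1 hx))]
      rw [h1]; exact Subgroup.mem_zpowers _
  · intro y hy hyz
    by_contra hcon
    push Not at hcon
    have h1 := A.grp.Q_center _ ((hmem y).1 hy) fun x hx => by
      have h3 := hcon ⟨x, hQG hx⟩ ((hmem _).2 hx)
      exact (congrArg Subtype.val h3).symm
    rcases h1 with h1 | h1
    · apply hyz
      rw [show y = 1 from Subtype.ext h1]; exact Subgroup.one_mem _
    · apply hyz
      rw [show y = ⟨Inst.M.z, hzG⟩ from Subtype.ext h1]; exact Subgroup.mem_zpowers _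

/-- **The Baby Monster.** -/
theorem bd_baby {F : Type u} [Field F] (h2 : (2 : F) ≠ 0) {T : Type v} [Group T] (h : Spor.IsoB T) :
    Bd F 2 (2 ^ 11) T := by
  obtain ⟨e⟩ := h
  have hB := (S1704.result).1
  have hs : Function.Surjective (BM.StageW.hom Instance.all Instance.ok) :=
    BM.StageW.hom_surjective Instance.all Instance.ok (BM.StageWSurj.closure_x Instance.all Instance.ok)
  have hi : Function.Injective (BM.StageW.hom Instance.all Instance.ok) := by
    rw [← MonoidHom.ker_eq_bot_iff]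
    rcases (inferInstance : (BM.StageW.hom Instance.all Instance.ok).ker.Normal).eq_bot_or_eq_top with h | h
    · exact h
    · exfalso
      have h1 := Instance.all.simple
      obtain ⟨x, hx⟩ := exists_ne (1 : Inst.M.G)
      obtain ⟨y, rfl⟩ := hs x
      apply hx
      have : y ∈ (BM.StageW.hom Instance.all Instance.ok).ker := by rw [h]; exact Subgroup.mem_top _
      exact this
  exact (bd_model h2).congr (e.trans (MulEquiv.ofBijective _ ⟨hi, hs⟩))

end Cfsg.Agent.H888.C6
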