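import Cfsg.Agent.H878.KerBase
import Cfsg.Prelude.Def_LieTypeChar
import Cfsg.Agent.S0243
import Cfsg.Agent.S0280
import Cfsg.Agent.S0293
import Cfsg.Agent.S2086
import Cfsg.Agent.S2089
import Cfsg.Agent.S2091
import Cfsg.Agent.S2092
import Cfsg.Agent.S2093
import Cfsg.Agent.S2096
import Cfsg.Agent.S2097
import Cfsg.Agent.S2098
import Cfsg.Agent.S2099
import Cfsg.Agent.S0246
import Cfsg.Agent.S0245
import Cfsg.Prelude.Def_GeometricClasses
import Cfsg.Agent.H888.C6.PlusFin
import Cfsg.Agent.LieClassical.OrthForms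
import Cfsg.Agent.LieClassical.OrthFinite
import Cfsg.Agent.ClassicalGeometry.SympInvolutions
import Cfsg.Agent.H326.Shape
import Cfsg.Agent.H912.CrossList_m3
import Cfsg.Agent.S1064
import Cfsg.Agent.S2100
import Cfsg.Agent.S2101
import Cfsg.Agent.S2102
import Cfsg.Agent.S2103
import Cfsg.Agent.S2105
import Cfsg.Agent.S2106
import Cfsg.Agent.S2107
import Cfsg.Agent.S2108
import Cfsg.Agent.S2110
import Cfsg.Agent.S2111
import Cfsg.Agent.S2113
import Cfsg.Agent.S2114
import Cfsg.Agent.S2115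
import Cfsg.Agent.OrdDiv.Table
import Cfsg.Agent.S2042
import Cfsg.Agent.S2055
import Cfsg.Agent.S2059
import Cfsg.Prelude.Def_Classification2
import Cfsg.Agent.H934.HeisE7
import Cfsg.Agent.H917.NatRep
import Cfsg.Agent.H175.BdSp_m3
import Cfsg.Agent.H419.LeechIrr
import Cfsg.Agent.KFacts.MulCo.CoZero
import Cfsg.Agent.KFacts.MulSpor.NoDbl
import Cfsg.Agent.H888.C6.RowB
import Cfsg.Agent.H7.ESixRep
import Cfsg.Agent.H878.Nums
import Cfsg.Agent.Lib.Zsigmondy
import Cfsg.Agent.S0292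
import Cfsg.Agent.S0294
import Cfsg.Agent.FastGrp
import Cfsg.Agent.Prune
set_option linter.all false

section
prune_inst 0x7f00000000000000000000000000000000000000000000000000000000000000000000000000000000000000000000000000000000000000000000000000000000000000000000000000000000000000003fffffffffffffffffffffffffffbeffbdffffffff

-- part: H888/C6/RowCl_mg
section
set_option linter.all false
open scoped Cfsg.Agent.FastGrp

-- part: H888/C6/EvClass
section
/-!
# Classical groups with a perfect central extension of even kernel (helper888)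

Classical groups in characteristic 2 of order divisible by `2 ^ 20` have no perfect central extension with kernel
of even order.
-/

set_option autoImplicit false

namespace Cfsg.Agent.H888.C6

open Cfsg Cfsg.Agent.H878

universe u v

variable {T : Type v} [Group T]

/-- `T` is a classical group in the odd characteristic `s` -/
def ClOdd (s : ℕ) (T : Type v) [Group T] : Prop :=
  IsPSLChar s T ∨ IsPSpChar s T ∨ IsPSUChar s T ∨ IsPOmegaOddChar s T ∨ IsPOmegaPlusChar s T ∨ IsPOmegaMinusChar s T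

theorem exists_odd_char (F : Type) [Field F] [Fintype F] (h : Odd (Fintype.card F)) :
    ∃ s : ℕ, s.Prime ∧ s ≠ 2 ∧ CharP F s := by
  obtain ⟨p, hp⟩ := CharP.exists F
  have := CharP.char_is_prime F p
  refine ⟨p, this, ?_, hp⟩
  rintro rfl
  have h1 : Fact (Nat.Prime 2) := ⟨Nat.prime_two⟩
  obtain ⟨n, -, hn⟩ := FiniteField.card F 2
  rw [hn] at h
  exact absurd h (Nat.not_odd_iff_even.2 (even_two.pow_of_ne_zero n.ne_zero))

theorem odd_not_two_dvd {m : ℕ} (h : Odd m) : ¬ 2 ∣ m := fun h' => by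
  obtain ⟨k, hk⟩ := h
  omega

theorem odd_of_dvd_odd {a b : ℕ} (h : a ∣ b) (hb : Odd b) : Odd a := Odd.of_dvd_nat hb h

theorem away_odd {n : ℕ} (h : HasCyclicSchurMultiplier T n) (hn : Odd n) : Away.{u} 2 T :=
  ⟨n, kerExp_of_cyc h, odd_not_two_dvd hn⟩

theorem ev_psl (h : IsPSL T) (h20 : 2 ^ 20 ∣ Nat.card T) : Away.{u} 2 T ∨ ∃ s, s.Prime ∧ s ≠ 2 ∧ IsPSLChar s T := by
  obtain ⟨F, _, _, n, hn, h2, ⟨e⟩⟩ := h
  rcases Nat.even_or_odd (Fintype.card F) with hF | hF
  swap
  · obtain ⟨s, h1, h3, h4⟩ := exists_odd_char F hF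
    exact Or.inr ⟨s, h1, h3, F, _, _, h4, n, hn, h2, ⟨e⟩⟩
  left
  have hc := Nat.card_congr e.toEquiv
  rw [hc] at h20
  have hS := S0243.result (F := F) rfl n hn
  have h1 : 1 < Fintype.card F := Fintype.one_lt_card
  by_cases hexc : (n, Fintype.card F) ∉ ({(2, 4), (2, 9), (3, 2), (3, 4), (4, 2)} : Set (ℕ × ℕ))
  · refine (away_odd (S2086.result rfl n hn h2 hexc) ?_).congr e
    refine odd_of_dvd_odd (Nat.gcd_dvd_right _ _) ?_
    obtain ⟨k, hk⟩ := hF
    exact ⟨k - 1, by omega⟩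
  · exfalso
    rw [not_not] at hexc
    simp only [Set.mem_insert_iff, Prod.mk.injEq, Set.mem_singleton_iff] at hexc
    have h16 : 2 ^ 20 ∣ ∏ i : Fin n, ((Fintype.card F) ^ n - (Fintype.card F) ^ (i : ℕ)) := by
      rw [← hS]
      exact (h20.mul_left _).mul_left _
    rcases hexc with ⟨rfl, hq⟩ | ⟨rfl, hq⟩ | ⟨rfl, hq⟩ | ⟨rfl, hq⟩ | ⟨rfl, hq⟩ <;> rw [hq] at h16 <;>
      revert h16 <;> decide

theorem ev_psp (h : IsPSp T) (h20 : 2 ^ 20 ∣ Nat.card T) : Away.{u} 2 T ∨ ∃ s, s.Prime ∧ s ≠ 2 ∧ IsPSpChar s T := by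
  obtain ⟨F, _, _, m, hm, h2, ⟨e⟩⟩ := h
  rcases Nat.even_or_odd (Fintype.card F) with hF | hF
  swap
  · obtain ⟨s, h1, h3, h4⟩ := exists_odd_char F hF
    exact Or.inr ⟨s, h1, h3, F, _, _, h4, m, hm, h2, ⟨e⟩⟩
  left
  have h1 : 1 < Fintype.card F := Fintype.one_lt_card
  by_cases hexc : m = 3 ∧ Fintype.card F = 2
  · exfalso
    obtain ⟨rfl, hq⟩ := hexc
    rw [Nat.card_congr e.toEquiv] at h20
    have h3 := S0245.result hq 3
    have h4 := Subgroup.card_eq_card_quotient_mul_card_subgroup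
      (Subgroup.center (Matrix.symplecticGroup (Fin 3) F))
    have h5 : 2 ^ 20 ∣ Nat.card (Matrix.symplecticGroup (Fin 3) F) := by
      rw [h4]
      exact Dvd.dvd.mul_right h20 _
    rw [h3] at h5
    revert h5; decide
  · refine (away_odd (S2092.result rfl m hm h2 hexc) ?_).congr e
    refine odd_of_dvd_odd (Nat.gcd_dvd_right _ _) ?_
    obtain ⟨k, hk⟩ := hF
    exact ⟨k - 1, by omega⟩

theorem ev_psu (h : IsPSU T) (h20 : 2 ^ 20 ∣ Nat.card T) : Away.{u} 2 T ∨ ∃ s, s.Prime ∧ s ≠ 2 ∧ IsPSUChar s T := by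
  obtain ⟨F, _, _, n, q, hq, hn, h32, ⟨e⟩⟩ := h
  rcases Nat.even_or_odd q with hF | hF
  swap
  · obtain ⟨s, h1, h3, h4⟩ := exists_odd_char F (by rw [hq]; exact hF.pow)
    exact Or.inr ⟨s, h1, h3, F, _, _, h4, n, q, hq, hn, h32, ⟨e⟩⟩
  left
  have hc := Nat.card_congr e.toEquiv
  rw [hc] at h20
  have hS := S0280.result hq n (by omega)
  by_cases hexc : (n, q) ∉ ({(4, 2), (4, 3), (6, 2)} : Set (ℕ × ℕ))
  · refine (away_odd (S2089.result n q hq hn h32 hexc) ?_).congr e
    exact odd_of_dvd_odd (Nat.gcd_dvd_right _ _) (Even.add_one hF)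
  · exfalso
    rw [not_not] at hexc
    simp only [Set.mem_insert_iff, Prod.mk.injEq, Set.mem_singleton_iff] at hexc
    have h16 := (h20.mul_left (q + 1)).mul_left (Nat.gcd n (q + 1))
    rw [hS] at h16
    rcases hexc with ⟨rfl, rfl⟩ | ⟨rfl, rfl⟩ | ⟨rfl, rfl⟩
    · revert h16; decide
    · revert h16; decide
    · revert h16; decide

theorem ev_oodd (h : IsPOmegaOdd T) : ∃ s, s.Prime ∧ s ≠ 2 ∧ IsPOmegaOddChar s T := by
  obtain ⟨F, _, _, m, hm, hF, ⟨e⟩⟩ := h
  obtain ⟨s, h1, h3, h4⟩ := exists_odd_char F hF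
  exact ⟨s, h1, h3, F, _, _, h4, m, hm, hF, ⟨e⟩⟩

theorem odd_pow_sub {q l : ℕ} (hq : Even q) (h0 : 1 ≤ q ^ l) (hl : 1 ≤ l) : Odd (q ^ l - 1) := by
  have h1 : Even (q ^ l) := hq.pow_of_ne_zero (by omega)
  obtain ⟨k, hk⟩ := h1
  exact ⟨k - 1, by omega⟩

theorem ev_oplus (h : IsPOmegaPlus T) (h20 : 2 ^ 20 ∣ Nat.card T) :
    Away.{u} 2 T ∨ ∃ s, s.Prime ∧ s ≠ 2 ∧ IsPOmegaPlusChar s T := by
  obtain ⟨F, _, _, l, hl, ⟨e⟩⟩ := h
  have h1 : 1 < Fintype.card F := Fintype.one_lt_card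
  rcases Nat.even_or_odd (Fintype.card F) with hF | hF
  swap
  · obtain ⟨s, h1, h3, h4⟩ := exists_odd_char F hF
    exact Or.inr ⟨s, h1, h3, F, inferInstance, inferInstance, h4, l, hl, ⟨e⟩⟩
  left
  rcases Nat.even_or_odd l with he | ho
  · by_cases hexc : l = 4 ∧ Fintype.card F = 2
    · exfalso
      obtain ⟨rfl, hq⟩ := hexc
      rw [Nat.card_congr e.toEquiv] at h20
      have h16 := h20.mul_left (Nat.gcd 4 (2 ^ 4 - 1))
      rw [S0293.result hq 4 (le_refl _)] at h16
      revert h16; decide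
    · have hS := S2097.result rfl l hl he hexc (F := F)
      refine Away.congr ⟨1, kerExp_of_mult hS ?_, by decide⟩ e
      have hg : Nat.gcd 2 (Fintype.card F ^ l - 1) = 1 :=
        Nat.coprime_two_left.2 (odd_pow_sub hF (Nat.one_le_pow _ _ (by omega)) (by omega))
      rw [hg]
      intro a
      exact Subsingleton.elim _ _
  · refine (away_odd (S2096.result rfl l (by obtain ⟨k, hk⟩ := ho; omega) ho) ?_).congr e
    exact odd_of_dvd_odd (Nat.gcd_dvd_right _ _)
      (odd_pow_sub hF (Nat.one_le_pow _ _ (by omega)) (by omega))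

theorem ev_ominus (h : IsPOmegaMinus T) : Away.{u} 2 T ∨ ∃ s, s.Prime ∧ s ≠ 2 ∧ IsPOmegaMinusChar s T := by
  obtain ⟨F, _, _, l, a, b, hl, hab, ⟨e⟩⟩ := h
  rcases Nat.even_or_odd (Fintype.card F) with hF | hF
  swap
  · obtain ⟨s, h1, h3, h4⟩ := exists_odd_char F hF
    exact Or.inr ⟨s, h1, h3, F, inferInstance, inferInstance, h4, l, a, b, hl, hab, ⟨e⟩⟩
  left
  refine (away_odd (S2099.result rfl l hl a b hab) ?_).congr e
  exact odd_of_dvd_odd (Nat.gcd_dvd_right _ _) (Even.add_one (hF.pow_of_ne_zero (by omega)))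

end Cfsg.Agent.H888.C6
end

-- part: H888/C6/ClDeg
section
/-!
# Classical groups of natural degree at least `n` (helper888)
-/

set_option autoImplicit false

namespace Cfsg.Agent.H888.C6

open Cfsg

/-- `T` is a classical group in characteristic `s` with natural module of dimension at least `n`. -/
def ClDeg (n s : ℕ) (T : Type*) [Group T] : Prop :=
  (∃ (K : Type) (_ : Field K) (_ : Fintype K) (_ : CharP K s) (d : ℕ), n ≤ d ∧
      Nonempty (T ≃* Matrix.ProjectiveSpecialLinearGroup (Fin d) K)) ∨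
  (∃ (K : Type) (_ : Field K) (_ : Fintype K) (_ : CharP K s) (d q : ℕ), Fintype.card K = q ^ 2 ∧ n ≤ d ∧
      Nonempty (T ≃* PSU d K q)) ∨
  (∃ (K : Type) (_ : Field K) (_ : Fintype K) (_ : CharP K s) (m : ℕ), n ≤ 2 * m ∧ Nonempty (T ≃* PSp m K)) ∨
  (∃ (K : Type) (_ : Field K) (_ : Fintype K) (_ : CharP K s) (m : ℕ), n ≤ 2 * m + 1 ∧
      Nonempty (T ≃* POmega K (quadFormOdd m K))) ∨
  (∃ (K : Type) (_ : Field K) (_ : Fintype K) (_ : CharP K s) (m : ℕ), n ≤ 2 * m ∧
      Nonempty (T ≃* POmega K (quadFormPlus m K))) ∨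
  (∃ (K : Type) (_ : Field K) (_ : Fintype K) (_ : CharP K s) (m : ℕ) (a b : K), n ≤ 2 * m ∧
      (∀ z₁ z₂ : K, z₁ ^ 2 + a * z₁ * z₂ + b * z₂ ^ 2 = 0 → z₁ = 0 ∧ z₂ = 0) ∧
      Nonempty (T ≃* POmega K (quadFormMinus (m - 1) K a b)))

end Cfsg.Agent.H888.C6
end

-- part: H888/C6/RowCl
section
/-!
# Classical simple quotients: the natural degree is at least `2 ^ k` (helper888)
-/

set_option autoImplicit false

namespace Cfsg.Agent.H888.C6

open Cfsg Cfsg.Geo Matrix Cfsg.Agent.ClassicalGeometry.SympBasic Cfsg.Agent.H920 Cfsg.Agent.H919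

universe u

variable {ι : Type} [Fintype ι] [DecidableEq ι] {F : Type u} [Field F] {R : Subgroup (GL ι F)} {k : ℕ}
variable {C : Coord R 2 k} {q : V2 k → ZMod 2} {Y P : Subgroup (GL ι F)}

theorem natRep_psp (m : ℕ) (K : Type*) [Field K] : H917.NatRep K (Fin m ⊕ Fin m) (PSp m K) := by
  refine H917.NatRep.of_hom (H := Matrix.symplecticGroup (Fin m) K)
    (MonoidHom.toHomUnits (Submonoid.subtype (Matrix.symplecticGroup (Fin m) K))) ?_ ?_
  · intro A B h
    apply Subtype.ext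
    exact congrArg (fun g : GL (Fin m ⊕ Fin m) K => (g : Matrix (Fin m ⊕ Fin m) (Fin m ⊕ Fin m) K)) h
  · intro z hz
    rcases Cfsg.Agent.ClassicalGeometry.SympInvolutions.center_eq hz with h | h
    · exact H917.mem_center_GL_of_smul (c := 1) (by rw [one_smul]; exact h)
    · exact H917.mem_center_GL_of_smul (c := -1) (by rw [neg_smul, one_smul]; exact h)

theorem two_ne_of_char {K : Type} [Field K] {s : ℕ} [CharP K s] (hs : s.Prime) (h2 : s ≠ 2) : (2 : K) ≠ 0 := by
  intro h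
  have h1 : ((2 : ℕ) : K) = 0 := by exact_mod_cast h
  exact h2 ((Nat.prime_dvd_prime_iff_eq hs Nat.prime_two).1 ((CharP.cast_eq_zero_iff K s 2).1 h1))

open Cfsg.Agent.LieClassical Cfsg.Agent.LieClassical.OrthCore Cfsg.Agent.LieClassical.OrthTrans Cfsg.Agent.LieClassical.OrthForms
  Cfsg.Agent.LieClassical.OrthFinite in
theorem Over.clDeg [Finite F] (O : Over C q Y P) {s : ℕ} (hs : s.Prime) (h2 : s ≠ 2) (hT : ClOdd s (QY P)) :
    ClDeg (2 ^ k) s (QY P) := by
  rcases hT with ⟨K, _, _, _, d, hd2, hd, ⟨e⟩⟩ | ⟨K, _, _, _, m, hm2, hm, ⟨e⟩⟩ | ⟨K, _, _, _, d, q, hK, hd3, hd, ⟨e⟩⟩ |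
    ⟨K, _, _, _, m, hm3, hodd, ⟨e⟩⟩ | ⟨K, _, _, _, m, hm4, ⟨e⟩⟩ | ⟨K, _, _, _, m, a, b, hm4, hab, ⟨e⟩⟩
  · have : Nonempty (Fin d) := ⟨⟨0, by omega⟩⟩
    have h := O.nat_deg (two_ne_of_char hs h2) ((H917.natRep_psl K d).congr e)
    rw [Fintype.card_fin] at h
    exact Or.inl ⟨K, inferInstance, inferInstance, inferInstance, d, h, ⟨e⟩⟩
  · have : Nonempty (Fin m ⊕ Fin m) := ⟨Sum.inl ⟨0, by omega⟩⟩
    have h := O.nat_deg (two_ne_of_char hs h2) ((natRep_psp m K).congr e)
    rw [Fintype.card_sum, Fintype.card_fin] at h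
    exact Or.inr (Or.inr (Or.inl ⟨K, inferInstance, inferInstance, inferInstance, m, by omega, ⟨e⟩⟩))
  · have : Nonempty (Fin d) := ⟨⟨0, by omega⟩⟩
    have h := O.nat_deg (two_ne_of_char hs h2) ((H917.natRep_psu hK hd3).congr e)
    rw [Fintype.card_fin] at h
    exact Or.inr (Or.inl ⟨K, inferInstance, inferInstance, inferInstance, d, q, hK, h, ⟨e⟩⟩)
  · have : Nonempty ((Fin m ⊕ Fin m) ⊕ Unit) := ⟨Sum.inr ()⟩
    have hG : Good (oddForm m K) := by
      apply good_of_finite (nondeg_oddForm m K (two_ne_of_char hs h2))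
      rw [Module.finrank_fintype_fun_eq_card, Fintype.card_sum, Fintype.card_sum, Fintype.card_fin, Fintype.card_unit]
      omega
    have hN := H917.natRep_pomega hG
    rw [coe_oddForm] at hN
    have h := O.nat_deg (two_ne_of_char hs h2) (hN.congr e)
    rw [Fintype.card_sum, Fintype.card_sum, Fintype.card_fin, Fintype.card_unit] at h
    exact Or.inr (Or.inr (Or.inr (Or.inl ⟨K, inferInstance, inferInstance, inferInstance, m, by omega, ⟨e⟩⟩)))
  · have : Nonempty (Fin m ⊕ Fin m) := ⟨Sum.inl ⟨0, by omega⟩⟩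
    have hG : Good (plusForm m K) := by
      apply good_of_finite (nondeg_plusForm m K)
      rw [Module.finrank_fintype_fun_eq_card, Fintype.card_sum, Fintype.card_fin]
      omega
    have hN := H917.natRep_pomega hG
    rw [coe_plusForm] at hN
    have h := O.nat_deg (two_ne_of_char hs h2) (hN.congr e)
    rw [Fintype.card_sum, Fintype.card_fin] at h
    exact Or.inr (Or.inr (Or.inr (Or.inr (Or.inl ⟨K, inferInstance, inferInstance, inferInstance, m, by omega, ⟨e⟩⟩))))
  · have : Nonempty ((Fin (m - 1) ⊕ Fin (m - 1)) ⊕ Fin 2) := ⟨Sum.inr 0⟩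
    have hG : Good (minusForm (m - 1) K a b) := by
      apply good_of_finite (nondeg_minusForm (m - 1) K a b hab)
      rw [Module.finrank_fintype_fun_eq_card, Fintype.card_sum, Fintype.card_sum, Fintype.card_fin, Fintype.card_fin]
      omega
    have hN := H917.natRep_pomega hG
    rw [coe_minusForm] at hN
    have h := O.nat_deg (two_ne_of_char hs h2) (hN.congr e)
    rw [Fintype.card_sum, Fintype.card_sum, Fintype.card_fin, Fintype.card_fin] at h
    exact Or.inr (Or.inr (Or.inr (Or.inr (Or.inr ⟨K, inferInstance, inferInstance, inferInstance, m, a, b, by omega, hab, ⟨e⟩⟩))))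

end Cfsg.Agent.H888.C6
end

-- part: H680/CSixRows
section
/-!
# Rows for S5703 + S5651 (tasks 1736, 1738; helper680)

* `alt_row` : alternating groups of large degree have no projective representation of degree `2 ^ k`;
* `e7_defining` : the order of `E₇(q)`, `q` a power of `p`, does not divide the order of `GL₁₆(p)`.
-/

set_option autoImplicit false

namespace Cfsg.Agent.H680.CSix

universe u

theorem alt_row {k N : ℕ} (hk : 4 ≤ k) (hN : (2 ^ k + 1) * (2 ^ k - 2) ≤ 2 * N) {F : Type u} [Field F] {p : ℕ}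
    [CharP F p] (h : ∀ r : ℕ, r.Prime → r ≠ 2 → H912.Bd.PR F (2 ^ k) r (alternatingGroup (Fin N))) : False := by
  have h16 : 16 ≤ 2 ^ k := by
    calc 16 = 2 ^ 4 := by norm_num
      _ ≤ 2 ^ k := Nat.pow_le_pow_right (by norm_num) hk
  obtain ⟨n, hn⟩ : ∃ n, n = 2 ^ k := ⟨_, rfl⟩
  rw [← hn] at hN h16 h
  obtain ⟨r₁, hr₁, h1, h2⟩ := Nat.exists_prime_lt_and_le_two_mul (n + 1) (by omega)
  obtain ⟨r₂, hr₂, h3, h4⟩ := Nat.exists_prime_lt_and_le_two_mul (2 * (n + 1)) (by omega)
  have hN' : 4 * (n + 1) + 2 ≤ N := by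
    have h5 : (n + 1) * 14 ≤ (n + 1) * (n - 2) := Nat.mul_le_mul_left _ (by omega)
    omega
  -- one of the two primes is not zero in `F`
  obtain ⟨r, hr, hr1, hr2, hrF⟩ : ∃ r : ℕ, r.Prime ∧ n + 1 < r ∧ r ≤ 4 * (n + 1) ∧ (r : F) ≠ 0 := by
    by_cases h5 : (r₁ : F) = 0
    · refine ⟨r₂, hr₂, by omega, by omega, ?_⟩
      intro h6
      rw [CharP.cast_eq_zero_iff F p] at h5 h6
      rcases (Nat.dvd_prime hr₁).1 h5 with h7 | h7
      · have := CharP.char_ne_one F p
        exact this h7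
      · rw [h7] at h6
        have := (Nat.prime_dvd_prime_iff_eq hr₁ hr₂).1 h6
        omega
    · exact ⟨r₁, hr₁, by omega, by omega, h5⟩
  have hb := H912.Bd.bd_alt_prime (F := F) hr hrF (n := N) (by omega) n (h r hr (by omega))
  omega

theorem e7_defining {p : ℕ} [Fact p.Prime] (_hp2 : p ≠ 2) {F : Type*} [Field F] [Fintype F]
    (hF : Fintype.card F = p) {K : Type} [Field K] [Fintype K] [CharP K p] {T : Type*} [Group T]
    (e : Nonempty (T ≃* ↥(Cfsg.Lie.chevE7.group K)))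
    (hd : Nat.card T ∣ Nat.card (Matrix.GeneralLinearGroup (Fin 16) F)) : False := by
  have hp : p.Prime := Fact.out
  obtain ⟨e⟩ := e
  rw [Nat.card_congr e.toEquiv] at hd
  obtain ⟨n, -, hK⟩ := FiniteField.card K p
  have hn : 0 < (n : ℕ) := n.2
  obtain ⟨r, hr, hrm, hrn⟩ := H326.exists_ppd (a := p) (n := 18 * n) hp.two_le (by omega) (by omega)
  have hrp : ¬ r ∣ p := by
    intro h
    have h1 := (Nat.prime_dvd_prime_iff_eq hr hp).1 h
    have h2 := (hrm (18 * n)).2 dvd_rfl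
    rw [h1] at h2
    have h3 : p ∣ p ^ (18 * (n : ℕ)) := dvd_pow_self p (by omega)
    have h4 : 1 ≤ p ^ (18 * (n : ℕ)) := Nat.one_le_pow _ _ hp.pos
    have h5 := (Nat.dvd_sub_iff_right h4 h3).1 h2
    exact hp.one_lt.ne' (Nat.dvd_one.1 h5)
  -- `r` divides the order of `E₇(q)`
  have hrT : r ∣ Nat.card ↥(Cfsg.Lie.chevE7.group K) := by
    have h1 := Cfsg.Agent.S1064.result (F := K) (q := p ^ (n : ℕ)) hK
    have h2 : r ∣ (p ^ (n : ℕ)) ^ 18 - 1 := by
      rw [← pow_mul, hrm, mul_comm]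
    have h3 : r ∣ Nat.gcd 2 (p ^ (n : ℕ) - 1) * Nat.card ↥(Cfsg.Lie.chevE7.group K) := by
      rw [h1]; exact h2.mul_left _
    rcases hr.dvd_mul.1 h3 with h4 | h4
    · have h5 := Nat.le_of_dvd (by norm_num) (h4.trans (Nat.gcd_dvd_left 2 _))
      omega
    · exact h4
  have h1 := hrT.trans hd
  rw [Matrix.card_GL_field, hF] at h1
  obtain ⟨i, -, hi⟩ := (Prime.dvd_finsetProd_iff hr.prime _).1 h1
  have hi16 : (i : ℕ) < 16 := i.2
  have h2 : p ^ 16 - p ^ (i : ℕ) = p ^ (i : ℕ) * (p ^ (16 - (i : ℕ)) - 1) := by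
    rw [Nat.mul_sub, mul_one, ← pow_add]
    congr 2
    omega
  rw [h2] at hi
  rcases hr.dvd_mul.1 hi with h3 | h3
  · exact hrp (hr.dvd_of_dvd_pow h3)
  · rw [hrm] at h3
    have h4 := Nat.le_of_dvd (by omega) h3
    omega

end Cfsg.Agent.H680.CSix
end
end

-- part: H888/C6/Out_mg
section
set_option linter.all false
open scoped Cfsg.Agent.FastGrp

-- part: H888/C6/EvExc
section
/-!
# Exceptional groups with a perfect central extension of even kernel (helper888)
-/

set_option autoImplicit false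

namespace Cfsg.Agent.H888.C6

open Cfsg Cfsg.Agent.H878

universe u v

theorem odd_gcd_three (k : ℕ) : Odd (Nat.gcd 3 k) := odd_of_dvd_odd (Nat.gcd_dvd_left 3 k) (by decide)

theorem ev_exc {T : Type v} [Group T] (h : IsExceptionalLieType T) (h20 : 2 ^ 20 ∣ Nat.card T) : Away.{u} 2 T ∨
    (∃ (F : Type) (_ : Field F) (_ : Fintype F), Odd (Fintype.card F) ∧ Nonempty (T ≃* ↥(Lie.chevE7.group F))) ∨
    (∃ (F : Type) (_ : Field F) (_ : Fintype F), Fintype.card F = 2 ∧ Nonempty (T ≃* ↥(Lie.chevF4.group F))) ∨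
    (∃ (K : Type) (_ : Field K) (_ : Fintype K), Fintype.card K = 2 ^ 2 ∧
      Nonempty (T ≃* ↥(Lie.twistedE6 K 2))) := by
  rcases h with h | h | h | h | h | h | h | h | h | h | h
  · left
    obtain ⟨F, _, _, hF, e⟩ := h
    by_cases h5 : 5 ≤ Fintype.card F
    · exact (away_odd (S2100.result h5) odd_one).of_nonempty e
    · rcases (show Fintype.card F = 3 ∨ Fintype.card F = 4 by omega) with h | h
      · exact (away_odd (S2101.result h) (by decide)).of_nonempty e
      · exfalso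
        have h2 : Nat.card T = 4 ^ 6 * (4 ^ 2 - 1) * (4 ^ 6 - 1) := by
          rw [Nat.card_congr e.some.toEquiv, (OrdDiv.table.{0}).g2 F, h]
        rw [h2] at h20
        revert h20; decide
  · obtain ⟨F, _, _, e⟩ := h
    by_cases h5 : 3 ≤ Fintype.card F
    · left
      exact (away_odd (S2103.result h5) odd_one).of_nonempty e
    · have h1 : 1 < Fintype.card F := Fintype.one_lt_card
      exact Or.inr (Or.inr (Or.inl ⟨F, inferInstance, inferInstance, by omega, e⟩))
  · left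
    obtain ⟨F, _, _, e⟩ := h
    exact (away_odd (S2105.result rfl) (odd_gcd_three _)).of_nonempty e
  · obtain ⟨F, _, _, e⟩ := h
    rcases Nat.even_or_odd (Fintype.card F) with hF | hF
    · left
      refine (away_odd (S2106.result rfl) ?_).of_nonempty e
      have h1 : 1 < Fintype.card F := Fintype.one_lt_card
      have : Odd (Fintype.card F - 1) := by
        obtain ⟨k, hk⟩ := hF
        exact ⟨k - 1, by omega⟩
      exact odd_of_dvd_odd (Nat.gcd_dvd_right 2 _) this
    · exact Or.inr (Or.inl ⟨F, inferInstance, inferInstance, hF, e⟩)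
  · left
    obtain ⟨F, _, _, e⟩ := h
    exact (away_odd S2107.result odd_one).of_nonempty e
  · obtain ⟨K, _, _, q, hq, hK, e⟩ := h
    by_cases h2 : q = 2
    · subst h2
      exact Or.inr (Or.inr (Or.inr ⟨K, inferInstance, inferInstance, hK, e⟩))
    · left
      exact (away_odd (S2108.result hq hK h2) (odd_gcd_three _)).of_nonempty e
  · left
    obtain ⟨K, _, _, q, hq, hK, e⟩ := h
    exact (away_odd (S2110.result hq hK) odd_one).of_nonempty e
  · left
    obtain ⟨F, _, _, m, hm, hF, e⟩ := h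
    by_cases h2 : m = 1
    · exfalso
      subst h2
      have h3 := (OrdDiv.table.{0}).sz F 1 (le_refl 1) hF
      rw [Nat.card_congr e.some.toEquiv, h3] at h20
      revert h20; decide
    · exact (away_odd (S2111.result (show 2 ≤ m by omega) hF) odd_one).of_nonempty e
  · left
    obtain ⟨F, _, _, m, hm, hF, e⟩ := h
    exact (away_odd (S2113.result hm hF) odd_one).of_nonempty e
  · left
    obtain ⟨F, _, _, m, hm, hF, e⟩ := h
    exact (away_odd (S2114.result hm hF) odd_one).of_nonempty e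
  · left
    exact (away_odd S2115.result odd_one).of_nonempty h

end Cfsg.Agent.H888.C6
end

-- part: H888/C6/EvSpor
section
/-!
# Known simple groups with a perfect central extension of even kernel, of order divisible by `2 ^ 20` (helper888)
-/

set_option autoImplicit false

namespace Cfsg.Agent.H888.C6

open Cfsg Cfsg.Agent.H878

universe u v

theorem spor_not {T : Type v} [Group T] (h20 : 2 ^ 20 ∣ Nat.card T) (x : OrdDiv.Grp × ℕ) (hx : x ∈ OrdDiv.spor)
    (hd : ¬ 2 ^ 20 ∣ x.2) (h : OrdDiv.Real x.1 T) : False := by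
  have h1 := (OrdDiv.table.{v}).spor T x hx h
  rw [h1] at h20
  exact hd h20

theorem ev_spor {T : Type v} [Group T] (h : IsSporadicGroup T) (h20 : 2 ^ 20 ∣ Nat.card T) : Away.{u} 2 T ∨
    Spor.IsoCo1 T ∨ Spor.IsoB T := by
  rcases h with h | h | h | h | h | h | h | h | h | h | h | h | h | h | h | h | h | h | h | h | h | h | h | h | h | h
  · exact (spor_not h20 (.m11, 7920) (by decide) (by decide) h).elim
  · exact (spor_not h20 (.m12, 95040) (by decide) (by decide) h).elim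
  · exact (spor_not h20 (.m22, 443520) (by decide) (by decide) h).elim
  · exact (spor_not h20 (.m23, 10200960) (by decide) (by decide) h).elim
  · exact (spor_not h20 (.m24, 244823040) (by decide) (by decide) h).elim
  · exact (spor_not h20 (.j1, 175560) (by decide) (by decide) h).elim
  · exact (spor_not h20 (.j2, 604800) (by decide) (by decide) h).elim
  · exact (spor_not h20 (.j3, 50232960) (by decide) (by decide) h).elim
  · exact Or.inl ((away_odd S2042.result odd_one).of_nonempty h)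
  · exact Or.inr (Or.inl h)
  · exact (spor_not h20 (.co2, 42305421312000) (by decide) (by decide) h).elim
  · exact (spor_not h20 (.co3, 495766656000) (by decide) (by decide) h).elim
  · exact (spor_not h20 (.mcl, 898128000) (by decide) (by decide) h).elim
  · exact (spor_not h20 (.hs, 44352000) (by decide) (by decide) h).elim
  · exact (spor_not h20 (.suz, 448345497600) (by decide) (by decide) h).elim
  · exact (spor_not h20 (.he, 4030387200) (by decide) (by decide) h).elim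
  · exact (spor_not h20 (.ru, 145926144000) (by decide) (by decide) h).elim
  · exact (spor_not h20 (.on, 460815505920) (by decide) (by decide) h).elim
  · exact (spor_not h20 (.ly, 51765179004000000) (by decide) (by decide) h).elim
  · exact (spor_not h20 (.fi22, 64561751654400) (by decide) (by decide) h).elim
  · exact (spor_not h20 (.fi23, 4089470473293004800) (by decide) (by decide) h).elim
  · exact Or.inl ((away_odd S2055.result (by decide)).of_nonempty h)
  · exact (spor_not h20 (.hn, 273030912000000) (by decide) (by decide) h).elim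
  · exact (spor_not h20 (.th, 90745943887872000) (by decide) (by decide) h).elim
  · exact Or.inr (Or.inr h)
  · exact Or.inl ((away_odd S2059.result odd_one).of_nonempty h)

/-- **The simple groups with a perfect central extension of even kernel and order divisible by `2 ^ 20`.** -/
theorem even_known {T : Type v} [Group T] (h : IsKnownSimple' T) (hna : ¬ IsMulCommutative T)
    (h20 : 2 ^ 20 ∣ Nat.card T) : Away.{u} 2 T ∨ IsAlternating T ∨ (∃ s, s.Prime ∧ s ≠ 2 ∧ ClOdd s T) ∨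
    (∃ (F : Type) (_ : Field F) (_ : Fintype F), Odd (Fintype.card F) ∧ Nonempty (T ≃* ↥(Lie.chevE7.group F))) ∨
    (∃ (F : Type) (_ : Field F) (_ : Fintype F), Fintype.card F = 2 ∧ Nonempty (T ≃* ↥(Lie.chevF4.group F))) ∨
    (∃ (K : Type) (_ : Field K) (_ : Fintype K), Fintype.card K = 2 ^ 2 ∧
      Nonempty (T ≃* ↥(Lie.twistedE6 K 2))) ∨
    Spor.IsoCo1 T ∨ Spor.IsoB T := by
  have hcl : ∀ s : ℕ, s.Prime → s ≠ 2 → ClOdd s T → (∃ s, s.Prime ∧ s ≠ 2 ∧ ClOdd s T) := fun s h1 h2 h3 =>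
    ⟨s, h1, h2, h3⟩
  rcases h with h | h | h | h | h | h | h | h | h | h
  · exfalso
    apply hna
    have : Fact (Nat.card T).Prime := ⟨h⟩
    have : IsCyclic T := isCyclic_of_prime_card (p := Nat.card T) rfl
    let _ : CommGroup T := IsCyclic.commGroup
    exact ⟨⟨fun a b => mul_comm a b⟩⟩
  · exact Or.inr (Or.inl h)
  · rcases ev_psl.{u} h h20 with h | ⟨s, h1, h2, h3⟩
    · exact Or.inl h
    · exact Or.inr (Or.inr (Or.inl (hcl s h1 h2 (Or.inl h3))))
  · rcases ev_psp.{u} h h20 with h | ⟨s, h1, h2, h3⟩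
    · exact Or.inl h
    · exact Or.inr (Or.inr (Or.inl (hcl s h1 h2 (Or.inr (Or.inl h3)))))
  · rcases ev_psu.{u} h h20 with h | ⟨s, h1, h2, h3⟩
    · exact Or.inl h
    · exact Or.inr (Or.inr (Or.inl (hcl s h1 h2 (Or.inr (Or.inr (Or.inl h3))))))
  · obtain ⟨s, h1, h2, h3⟩ := ev_oodd h
    exact Or.inr (Or.inr (Or.inl (hcl s h1 h2 (Or.inr (Or.inr (Or.inr (Or.inl h3)))))))
  · rcases ev_oplus.{u} h h20 with h | ⟨s, h1, h2, h3⟩
    · exact Or.inl h
    · exact Or.inr (Or.inr (Or.inl (hcl s h1 h2 (Or.inr (Or.inr (Or.inr (Or.inr (Or.inl h3))))))))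
  · rcases ev_ominus.{u} h with h | ⟨s, h1, h2, h3⟩
    · exact Or.inl h
    · exact Or.inr (Or.inr (Or.inl (hcl s h1 h2 (Or.inr (Or.inr (Or.inr (Or.inr (Or.inr h3))))))))
  · rcases ev_exc.{u} h h20 with h | h | h | h
    · exact Or.inl h
    · exact Or.inr (Or.inr (Or.inr (Or.inl h)))
    · exact Or.inr (Or.inr (Or.inr (Or.inr (Or.inl h))))
    · exact Or.inr (Or.inr (Or.inr (Or.inr (Or.inr (Or.inl h)))))
  · rcases ev_spor.{u} h h20 with h | h | h
    · exact Or.inl h
    · exact Or.inr (Or.inr (Or.inr (Or.inr (Or.inr (Or.inr (Or.inl h))))))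
    · exact Or.inr (Or.inr (Or.inr (Or.inr (Or.inr (Or.inr (Or.inr h))))))

end Cfsg.Agent.H888.C6
end

-- part: H888/C6/RowE7
section
/-!
# An elementary abelian subgroup of rank 17 in `E₇(q)` (helper888)
-/

set_option autoImplicit false

namespace Cfsg.Agent.H888.C6

open Cfsg Cfsg.Lie Cfsg.Agent.H934.HeisRoot Cfsg.Agent.H934.HeisChev Cfsg.Agent.H912.Bd

universe u v

section

variable {Γ F ι κ : Type*} [Group Γ] [Field F] [Fintype ι] [DecidableEq ι] (R : RH Γ F ι κ)

/-- **The elementary abelian subgroup** of a totally isotropic set of root groups. -/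
theorem rh_elem {s : ℕ} [CharP F s] [Finite F] (L : ι → Prop) (hL : ∀ i j, L i → L j → R.b i j = 0) :
    ∃ E : Subgroup Γ, (∀ a ∈ E, ∀ b ∈ E, a * b = b * a) ∧ (∀ e ∈ E, e ^ s = 1) ∧
      Nat.card ({i // L i} → F) * Nat.card F ≤ Nat.card E ∨ Infinite Γ := by
  classical
  by_cases hfin : Infinite Γ
  · exact ⟨⊥, Or.inr hfin⟩
  have : Finite Γ := not_infinite_iff_finite.1 hfin
  let S : Set Γ := {g | (∃ i, L i ∧ ∃ t, g = R.x i t) ∨ ∃ a, g = R.z a}
  have hS : ∀ g ∈ S, ∀ h ∈ S, g * h = h * g := by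
    rintro g (⟨i, hi, t, rfl⟩ | ⟨a, rfl⟩) h (⟨j, hj, u, rfl⟩ | ⟨b, rfl⟩)
    · rw [R.x_comm i j t u, hL i j hi hj, zero_mul, zero_mul, R.z_zero, mul_one]
    · exact R.x_z i t b
    · exact (R.x_z j u a).symm
    · rw [← R.z_add, ← R.z_add, add_comm]
  let E : Subgroup Γ := Subgroup.closure S
  have hcomm : ∀ a ∈ E, ∀ b ∈ E, a * b = b * a := by
    have h1 : E ≤ Subgroup.centralizer S := by
      rw [Subgroup.closure_le]
      intro g hg
      rw [SetLike.mem_coe, Subgroup.mem_centralizer_iff]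
      exact fun h hh => hS h hh g hg
    have h2 : E ≤ Subgroup.centralizer (E : Set Γ) := by
      rw [Subgroup.closure_le]
      intro g hg
      rw [SetLike.mem_coe, Subgroup.mem_centralizer_iff]
      intro h hh
      exact (Subgroup.mem_centralizer_iff.1 (h1 hh) g hg).symm
    intro a ha b hb
    exact Subgroup.mem_centralizer_iff.1 (h2 hb) a ha
  have hxs : ∀ i t, R.x i t ^ s = 1 := by
    intro i t
    have h1 : ∀ m : ℕ, R.x i t ^ m = R.x i ((m : F) * t) := by
      intro m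
      induction m with
      | zero => rw [pow_zero, Nat.cast_zero, zero_mul, R.x_zero]
      | succ m ih => rw [pow_succ, ih, ← R.x_add]; congr 1; push_cast; ring
    rw [h1, CharP.cast_eq_zero, zero_mul, R.x_zero]
  have hzs : ∀ t, R.z t ^ s = 1 := by
    intro t
    have h1 : ∀ m : ℕ, R.z t ^ m = R.z ((m : F) * t) := by
      intro m
      induction m with
      | zero => rw [pow_zero, Nat.cast_zero, zero_mul, R.z_zero]
      | succ m ih => rw [pow_succ, ih, ← R.z_add]; congr 1; push_cast; ring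
    rw [h1, CharP.cast_eq_zero, zero_mul, R.z_zero]
  have hexp : ∀ e ∈ E, e ^ s = 1 := by
    intro e he
    induction he using Subgroup.closure_induction with
    | mem g hg =>
      rcases hg with ⟨i, -, t, rfl⟩ | ⟨a, rfl⟩
      · exact hxs i t
      · exact hzs a
    | one => exact one_pow s
    | mul a b ha hb iha ihb =>
      have : Commute a b := hcomm a ha b hb
      rw [this.mul_pow, iha, ihb, one_mul]
    | inv a ha iha => rw [inv_pow, iha, inv_one]
  refine ⟨E, Or.inl ⟨hcomm, hexp, ?_⟩⟩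
  let ext : ({i // L i} → F) → ι → F := fun v i => if h : L i then v ⟨i, h⟩ else 0
  have hP : ∀ (l : List ι) (v : ι → F), (∀ i, v i ≠ 0 → L i) → R.P l v ∈ E := by
    intro l v hv
    induction l with
    | nil => rw [R.P_nil]; exact Subgroup.one_mem _
    | cons i l ih =>
      rw [R.P_cons]
      refine Subgroup.mul_mem _ ?_ ih
      by_cases h : v i = 0
      · rw [h, R.x_zero]; exact Subgroup.one_mem _
      · exact Subgroup.subset_closure (Or.inl ⟨i, hv i h, v i, rfl⟩)
  have hext : ∀ v i, ext v i ≠ 0 → L i := by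
    intro v i h
    by_contra hcon
    apply h
    change (if h : L i then v ⟨i, h⟩ else 0) = 0
    rw [dif_neg hcon]
  rw [← Nat.card_prod]
  refine Nat.card_le_card_of_injective (fun p : ({i // L i} → F) × F =>
    (⟨R.X (ext p.1) * R.z p.2, Subgroup.mul_mem _ (hP _ _ (hext p.1))
      (Subgroup.subset_closure (Or.inr ⟨p.2, rfl⟩))⟩ : E)) ?_
  rintro ⟨v, a⟩ ⟨w, b⟩ hvw
  have h1 : R.X (ext v) * R.z a = R.X (ext w) * R.z b := congrArg Subtype.val hvw
  have hzz : ∀ a b, R.z a * R.z b = R.z b * R.z a := fun a b => by rw [← R.z_add, ← R.z_add, add_comm]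
  have hxz : ∀ u c, R.X u * R.z c = R.z c * R.X u := R.X_z
  -- the difference
  have h2 : ext v = ext w := by
    by_contra hne
    have hd : ext v - ext w ≠ 0 := sub_ne_zero.2 hne
    obtain ⟨u, hu⟩ := R.special hd 1
    -- X (ext v) and X (ext w) have the same commutators
    have h3 := R.comm (ext v) u
    have h4 := R.comm (ext w) u
    have h5 : R.X (ext v) = R.X (ext w) * R.z (b - a) := by
      have h6 : R.z (b - a) * R.z a = R.z b := by rw [← R.z_add, sub_add_cancel]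
      have h7 : R.X (ext v) * R.z a = R.X (ext w) * R.z (b - a) * R.z a := by rw [mul_assoc, h6, h1]
      exact mul_right_cancel h7
    have h8 : R.z (R.om (ext v) u) = R.z (R.om (ext w) u) := by
      have h9 : R.X u * R.X (ext v) * R.z (R.om (ext v) u) = R.X u * R.X (ext v) * R.z (R.om (ext w) u) := by
        rw [← h3, h5]
        calc R.X (ext w) * R.z (b - a) * R.X u = R.X (ext w) * R.X u * R.z (b - a) := by
              rw [mul_assoc, ← hxz u (b - a), ← mul_assoc]
          _ = R.X u * R.X (ext w) * R.z (R.om (ext w) u) * R.z (b - a) := by rw [h4]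
          _ = _ := by rw [mul_assoc, hzz, ← mul_assoc, ← mul_assoc]
      exact mul_left_cancel h9
    have h10 : R.om (ext v - ext w) u = R.om (ext v) u - R.om (ext w) u := by
      have := R.om_add_left (ext v - ext w) (ext w) u
      rw [sub_add_cancel] at this
      rw [this]; ring
    have h11 : R.z (R.om (ext v) u - R.om (ext w) u) = 1 := by
      have h12 : R.z (R.om (ext v) u - R.om (ext w) u) * R.z (R.om (ext w) u) = R.z (R.om (ext w) u) := by
        rw [← R.z_add, sub_add_cancel, h8]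
      exact mul_eq_right.1 h12
    have h13 := R.z_inj _ h11
    rw [h10] at hu
    rw [h13] at hu
    exact zero_ne_one hu
  have h3 : v = w := by
    funext i
    have h4 := congrFun h2 i.1
    change (if h : L i.1 then v ⟨i.1, h⟩ else 0) = (if h : L i.1 then w ⟨i.1, h⟩ else 0) at h4
    rw [dif_pos i.2, dif_pos i.2] at h4
    exact h4
  rw [h2] at h1
  have h4 := mul_left_cancel h1
  have h5 : R.z (a - b) = 1 := by
    have h6 : R.z (a - b) * R.z b = R.z b := by rw [← R.z_add, sub_add_cancel, h4]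
    exact mul_eq_right.1 h6
  have h6 := R.z_inj _ h5
  rw [h3, sub_eq_zero.1 h6]

end

/-- **`E₇(q)` has an elementary abelian subgroup of rank `17`.** -/
theorem e7_rank {F : Type u} [Field F] [Fintype F] {s : ℕ} [CharP F s] :
    ∃ E : Subgroup ↥(chevE7.group F), (∀ a ∈ E, ∀ b ∈ E, a * b = b * a) ∧ (∀ e ∈ E, e ^ s = 1) ∧
      s ^ 17 ≤ Nat.card E := by
  classical
  have : Finite (Matrix.GeneralLinearGroup chevE7.Idx F) := inferInstance
  have hfin : Finite ↥(chevE7.group F) := inferInstance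
  let R := H934.HeisE7.tab.rh H934.HeisE7.hD H934.HeisE7.tab_ok F
  have hL : ∀ i j : Fin 32, i.1 < 16 → j.1 < 16 → R.b i j = 0 := by
    intro i j hi hj
    change (if j = H934.HeisE7.tab.opp i then -(H934.HeisE7.tab.e i : F) else 0) = 0
    rw [if_neg]
    intro h
    have h1 : j.1 = 31 - i.1 := congrArg Fin.val h
    omega
  obtain ⟨E, h | h⟩ := rh_elem (s := s) R (fun i : Fin 32 => i.1 < 16) hL
  · obtain ⟨h1, h2, h3⟩ := h
    refine ⟨E, h1, h2, le_trans ?_ h3⟩
    have hsF : s ≤ Nat.card F := by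
      rw [Nat.card_eq_fintype_card]
      exact Nat.le_of_dvd Fintype.card_pos (CharP.cast_eq_zero_iff F s _ |>.1 (by simp))
    have hc : Nat.card ({i : Fin 32 // i.1 < 16} → F) = Nat.card F ^ 16 := by
      rw [Nat.card_fun, Nat.card_eq_fintype_card (α := {i : Fin 32 // i.1 < 16})]
      congr 1
    rw [hc, ← pow_succ]
    exact Nat.pow_le_pow_left hsF 17
  · exact (not_infinite_iff_finite.2 hfin h).elim

/-- **The row `E₇(q)` in cross characteristic.** -/
theorem not_e7_cross {K : Type v} [Field K] {F : Type u} [Field F] [Fintype F] {s : ℕ} (hs : s.Prime) [CharP F s]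
    (hsK : (s : K) ≠ 0) {T : Type*} [Group T] (e : T ≃* ↥(chevE7.group F)) {n : ℕ} (hn : n ≤ 16)
    (hP : PR K n s T) : False := by
  obtain ⟨E, h1, h2, h3⟩ := e7_rank (F := F) (s := s)
  have hP' : PR K n s ↥(chevE7.group F) := hP.sub e.symm.toMonoidHom e.symm.injective
  have : Finite (Matrix.GeneralLinearGroup chevE7.Idx F) := inferInstance
  have h4 := H917.PR.card_le_pow hP' hs hsK E h1 h2
  have h5 := h3.trans h4
  exact absurd ((Nat.pow_le_pow_iff_right hs.one_lt).1 h5) (by omega)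

end Cfsg.Agent.H888.C6
end

-- part: H888/C6/RowF4
section
/-!
# No groups with a root group datum of type `F₄` in characteristic 2, `k ≤ 5` (helper888)
-/

set_option autoImplicit false

namespace Cfsg.Agent.H888.C6

open Cfsg Cfsg.Geo Matrix Cfsg.Agent.ClassicalGeometry.SympBasic Cfsg.Agent.H920 Cfsg.Agent.H919

universe u

variable {ι : Type} [Fintype ι] [DecidableEq ι] {F : Type u} [Field F] {R : Subgroup (GL ι F)} {k : ℕ}
variable {C : Coord R 2 k} {q : V2 k → ZMod 2} {Y P : Subgroup (GL ι F)}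

namespace Over

variable (O : Over C q Y P)

include O

/-- the centralizer of `R` modulo scalars -/
theorem mem_of_centralizes {x : QY P} (hx : ∀ y : Y, (y : GL ι F) ∈ R →
    x * mkY P ⟨y, O.le y.2⟩ = mkY P ⟨y, O.le y.2⟩ * x) :
    ∃ y : Y, (y : GL ι F) ∈ R ∧ x = mkY P ⟨y, O.le y.2⟩ := by
  have := O.nonempty
  obtain ⟨p, rfl⟩ := QuotientGroup.mk_surjective x
  obtain ⟨r, z, hz, hrz⟩ := O.tc.mem_of_commutes O.abs (y := (p : GL ι F)) (by
    intro r hr
    have h1 := hx ⟨r, O.yc.le hr⟩ hr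
    have h2 : mkY P (p * ⟨r, O.le (O.yc.le hr)⟩) = mkY P (⟨r, O.le (O.yc.le hr)⟩ * p) := by
      rw [map_mul, map_mul]; exact h1
    have h3 := mkY_eq.1 h2.symm
    rw [Subgroup.coe_mul, Subgroup.coe_mul] at h3
    have h4 : r * (p : GL ι F) * r⁻¹ * (p : GL ι F)⁻¹ = r * (p : GL ι F) * ((p : GL ι F) * r)⁻¹ := by group
    rw [h4]
    exact h3)
  refine ⟨⟨r, O.yc.le r.2⟩, r.2, ?_⟩
  change mkY P p = mkY P ⟨r, _⟩
  rw [mkY_eq, hrz]
  simpa using hz

/-- **No root group datum of type `F₄`.** -/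
theorem not_filt_F4 [Finite F] (hk5 : k ≤ 5)
    (hG : Cfsg.Agent.H684.FiltClass.FiltD 2 CoxeterMatrix.F₄ (QY P)) : False := by
  have := O.nonempty
  have h4 := O.four
  have hf := O.yc.fact
  have hB := O.yc.big O.tc (by omega)
  obtain ⟨j, hj, hj'⟩ := O.exists_j
  have hcard : Nat.card ((AY R Y).map j) = 2 ^ (2 * k) := by
    rw [← card_AY C O.yc.le]
    exact (Nat.card_congr (Subgroup.equivMapOfInjective _ _ hj).toEquiv).symm
  have h11 := BT.no_F4 hG (K := (AY R Y).map j) (N := j.range) (IsPGroup.of_card hcard) ?_ ?_ ?_ ?_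
  · rw [hcard] at h11
    have := (Nat.pow_le_pow_iff_right (by norm_num : 1 < 2)).1 h11
    omega
  · intro hbot
    rw [hbot, Subgroup.card_bot] at hcard
    have : 1 < 2 ^ (2 * k) := Nat.one_lt_two_pow (by omega)
    omega
  · intro x hx
    obtain ⟨y, hy, rfl⟩ := O.mem_of_centralizes (x := x) (by
      intro y hy
      have := (Subgroup.mem_centralizer_iff.1 hx) (j (mkY Y y)) ⟨mkY Y y, mem_AY.2 ⟨y, hy, rfl⟩, rfl⟩
      rw [hj'] at this
      exact this.symm)
    exact ⟨mkY Y y, mem_AY.2 ⟨y, hy, rfl⟩, hj' y⟩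
  · have hnorm : (AY R Y).Normal := inferInstance
    rintro _ ⟨y, rfl⟩
    rw [Subgroup.mem_normalizer_iff]
    have h1 : ∀ y : QY Y, ∀ a ∈ (AY R Y).map j, j y * a * (j y)⁻¹ ∈ (AY R Y).map j := by
      rintro y _ ⟨a, ha, rfl⟩
      exact ⟨y * a * y⁻¹, hnorm.conj_mem a ha y, by rw [map_mul, map_mul, map_inv]⟩
    intro a
    refine ⟨h1 y a, fun h => ?_⟩
    have h3 := h1 y⁻¹ _ h
    rw [map_inv] at h3
    have h5 : (j y)⁻¹ * (j y * a * (j y)⁻¹) * ((j y)⁻¹)⁻¹ = a := by group
    rwa [h5] at h3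
  · intro B hBK hB'
    rcases hB.irr (B.comap j) (by
      intro b hb
      obtain ⟨a, ha, hab⟩ := hBK (Subgroup.mem_comap.1 hb)
      rw [← hj hab]; exact ha) (by
      intro y b hb
      rw [Subgroup.mem_comap] at hb ⊢
      rw [map_mul, map_mul, map_inv]
      exact hB' (j y) ⟨y, rfl⟩ _ hb) with h | h
    · left
      rw [eq_bot_iff]
      intro b hb
      obtain ⟨a, ha, rfl⟩ := hBK hb
      have h3 : a ∈ B.comap j := hb
      rw [h, Subgroup.mem_bot] at h3
      rw [h3, map_one]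
      exact Subgroup.one_mem _
    · right
      apply le_antisymm hBK
      rintro _ ⟨a, ha, rfl⟩
      have h3 : a ∈ B.comap j := by rw [h]; exact ha
      exact h3

end Over

end Cfsg.Agent.H888.C6
end

-- part: H269/C6Cross
section
/-!
# S5651/S5703: cross characteristic classical groups of large natural degree (helper269, for helper888)
-/

set_option autoImplicit false

universe u v

namespace Cfsg.Agent.H269.C6Cross

open Cfsg Cfsg.Agent.H888.C6 Cfsg.Agent.H912.Bd

/-- numerics -/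
theorem two_pow_gt (k : ℕ) (hk : 6 ≤ k) : 4 * k + 12 < 2 ^ k := by
  induction k, hk using Nat.le_induction with
  | base => norm_num
  | succ k hk ih => rw [pow_succ]; omega

theorem pow_gt {q k : ℕ} (hq : 2 ≤ q) (hk : 6 ≤ k) : 4 * k + 12 < q ^ k :=
  (two_pow_gt k hk).trans_le (Nat.pow_le_pow_left hq k)

/-- A classical group in characteristic `s` of natural degree at least `n ≥ 16` has no projective
representation of degree `n` in characteristic prime to `s`. -/
theorem cross {n s : ℕ} (hn : 16 ≤ n) (hs : s.Prime) (_h2 : s ≠ 2) {T : Type v} [Group T]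
    (hT : ClDeg n s T) {F : Type u} [Field F] (hsF : (s : F) ≠ 0) (h : H912.Bd.PR F n s T) :
    False := by
  rcases hT with ⟨K, _, _, _, d, hd, ⟨e⟩⟩ | ⟨K, _, _, _, d, q, hq, hd, ⟨e⟩⟩ | ⟨K, _, _, _, m, hm, ⟨e⟩⟩ |
    ⟨K, _, _, _, m, hm, ⟨e⟩⟩ | ⟨K, _, _, _, m, hm, ⟨e⟩⟩ | ⟨K, _, _, _, m, a, b, hm, -, ⟨e⟩⟩
  · have h1 := H175.BdSL.bd_psl (F := F) hs (K := K) rfl (m := d) (by omega) hsF e n h
    have h3 := pow_gt (q := Fintype.card K) (k := d - 1) Fintype.one_lt_card (by omega)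
    omega
  · have hq2 : 2 ≤ q := by
      by_contra hcon
      have h3 : q ^ 2 ≤ 1 ^ 2 := Nat.pow_le_pow_left (by omega) 2
      have h4 : 1 < Fintype.card K := Fintype.one_lt_card
      omega
    have h1 := H175.BdSU.bd_psu (F := F) hs hq (n := d) (by omega) hsF e n h
    have h3 := pow_gt (q := q) (k := d - 2) hq2 (by omega)
    have h4 : 1 * q ^ (d - 2) ≤ (q - 1) * q ^ (d - 2) := Nat.mul_le_mul_right _ (by omega)
    omega
  · have h1 := H175.BdSp.bd_psp (F := F) hs (K := K) rfl (m := m) (by omega) hsF e n h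
    have h3 := pow_gt (q := Fintype.card K) (k := m) Fintype.one_lt_card (by omega)
    omega
  · have h1 := bd_pomega_odd_sl (F := F) hs hsF (K := K) inferInstance (m := m) (by omega) n
      (h.sub e.symm.toMonoidHom e.symm.injective)
    have h3 := pow_gt (q := Fintype.card K) (k := m - 1) Fintype.one_lt_card (by omega)
    omega
  · have h1 := bd_pomega_plus_sl (F := F) hs hsF (K := K) inferInstance (m := m) (by omega) n
      (h.sub e.symm.toMonoidHom e.symm.injective)
    have h3 := pow_gt (q := Fintype.card K) (k := m - 1) Fintype.one_lt_card (by omega)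
    omega
  · have h1 := bd_pomega_minus_sl (F := F) hs hsF (K := K) inferInstance (m := m - 1) (by omega) a b n
      (h.sub e.symm.toMonoidHom e.symm.injective)
    have h3 := pow_gt (q := Fintype.card K) (k := m - 1 - 1) Fintype.one_lt_card (by omega)
    omega

end Cfsg.Agent.H269.C6Cross
end

-- part: H779/CoRow/CoOne
section
/-!
# `Co1` row of S5703 and S5651 (helper779)

A perfect double cover of `Co1` has no subgroup of order `2 ^ 9` containing the central involution `z` with centre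
`⟨z⟩` and commutators in `⟨z⟩`: the trace of the 24-dimensional representation would have norm `9 / 4`.
-/

set_option autoImplicit false

open Cfsg

namespace Cfsg.Agent.H779.CoRow

open Subgroup Cfsg.Agent.SporadicA.Co0Basic Cfsg.Agent.Co2Type.Mono
open scoped commutatorElement

universe u

theorem neg_smul (v : leechLattice) : (negCo0 • v : leechLattice) = -v := negCo0_apply v

theorem tr8_neg_mul (g : Co0) : tr8 (negCo0 * g) = - tr8 g := by
  unfold tr8
  rw [← Finset.sum_neg_distrib]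
  refine Finset.sum_congr rfl fun i _ => ?_
  rw [mul_smul, neg_smul]
  rfl

/-- Abstract part: a subgroup of `Co0`. -/
theorem no_subgroup {R : Type u} [Group R] [Finite R] (f : R →* Co0) {z : R} (hz1 : z ≠ 1) (hz : f z = negCo0)
    (hcard : Nat.card R = 2 ^ 9) (hcen : ∀ x : R, (∀ y, x * y = y * x) → x = 1 ∨ x = z)
    (hcomm : ∀ x y : R, x * y = y * x ∨ x * y = z * (y * x)) : False := by
  classical
  have : Fintype R := Fintype.ofFinite R
  have hχ := Cfsg.Agent.H419.LeechIrr.isCharacter_lchi f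
  obtain ⟨n, hn⟩ := Cfsg.Agent.Characters.Core.classInner_isNat hχ hχ
  have hval : ∀ x : R, Cfsg.Agent.H419.LeechIrr.lchi f x = (tr8 (f x) : ℂ) / 8 := fun x => rfl
  have h1 : tr8 (f 1) = 192 := by rw [map_one, Cfsg.Agent.SigZeroCo2.Lin.tr8_one]
  have h2 : tr8 (f z) = -192 := by
    have h3 := tr8_neg_mul (1 : Co0)
    rw [mul_one, Cfsg.Agent.SigZeroCo2.Lin.tr8_one] at h3
    rw [hz, h3]
  have h3 : ∀ x : R, x ≠ 1 → x ≠ z → tr8 (f x) = 0 := by
    intro x hx1 hxz
    obtain ⟨y, hy⟩ : ∃ y, x * y ≠ y * x := by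
      by_contra hcon
      push Not at hcon
      rcases hcen x hcon with h | h
      · exact hx1 h
      · exact hxz h
    have h4 : x * y = z * (y * x) := (hcomm x y).resolve_left hy
    have h5 : y⁻¹ * x * y = y⁻¹ * z * y * x := by
      rw [mul_assoc, h4]; group
    have h6 := tr8_conj (f y⁻¹) (f x)
    rw [← map_mul, ← map_inv, ← map_mul, inv_inv, h5] at h6
    have h7 : f (y⁻¹ * z * y * x) = negCo0 * f x := by
      rw [map_mul, map_mul, map_mul, hz, map_inv]
      have h8 := Subgroup.mem_center_iff.1 negCo0_mem_center (f y)⁻¹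
      rw [h8, inv_mul_cancel_right]
    rw [h7, tr8_neg_mul] at h6
    omega
  have hsum : ∑ g : R, Cfsg.Agent.H419.LeechIrr.lchi f g * (starRingEnd ℂ) (Cfsg.Agent.H419.LeechIrr.lchi f g) = 1152 := by
    rw [Fintype.sum_eq_add (1 : R) z hz1.symm (fun x hx => by rw [hval, h3 x hx.1 hx.2]; simp)]
    rw [hval, hval, h1, h2]
    have h4 : (((192 : ℤ) : ℂ) / 8) = ((24 : ℝ) : ℂ) := by push_cast; norm_num
    have h5 : (((-192 : ℤ) : ℂ) / 8) = ((-24 : ℝ) : ℂ) := by push_cast; norm_num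
    rw [h4, h5, Complex.conj_ofReal, Complex.conj_ofReal]
    push_cast
    norm_num
  rw [classInner, hsum, hcard] at hn
  have h9 : (9 : ℂ) = 4 * n := by
    rw [← hn]
    norm_num
  have h10 : (9 : ℕ) = 4 * n := by exact_mod_cast h9
  omega

/-- **The row `Co1`.** -/
theorem co1_row {P : Type u} [Group P] [Finite P] (hperf : commutator P = ⊤) (z : P) (hz : z ∈ Subgroup.center P)
    (hz2 : orderOf z = 2) [(Subgroup.zpowers z).Normal] (hco : Spor.IsoCo1 (P ⧸ Subgroup.zpowers z)) (R : Subgroup P)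
    (hzR : z ∈ R) (hcard : Nat.card R = 2 ^ 9) (hcen : ∀ x ∈ R, (∀ y ∈ R, x * y = y * x) → x ∈ Subgroup.zpowers z)
    (hcomm : ∀ x ∈ R, ∀ y ∈ R, ⁅x, y⁆ ∈ Subgroup.zpowers z) : False := by
  obtain ⟨e⟩ := hco
  let f : P →* Cfsg.Spor.Co1 := e.toMonoidHom.comp (QuotientGroup.mk' (Subgroup.zpowers z))
  have hf : Function.Surjective f := e.surjective.comp (QuotientGroup.mk'_surjective _)
  have hker : f.ker = Subgroup.zpowers z := by
    ext x
    rw [MonoidHom.mem_ker]
    show e (QuotientGroup.mk x) = 1 ↔ _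
    rw [map_eq_one_iff e e.injective, QuotientGroup.eq_one_iff]
  have hzp : ∀ x, x ∈ Subgroup.zpowers z → x = 1 ∨ x = z := by
    rintro _ ⟨k, rfl⟩
    rcases Int.even_or_odd' k with ⟨m, rfl | rfl⟩
    · left
      show z ^ (2 * m) = 1
      rw [zpow_mul]
      have : z ^ (2 : ℤ) = 1 := by
        rw [show (2 : ℤ) = ((2 : ℕ) : ℤ) by norm_num, zpow_natCast, ← hz2, pow_orderOf_eq_one]
      rw [this, one_zpow]
    · right
      show z ^ (2 * m + 1) = z
      rw [zpow_add, zpow_mul]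
      have : z ^ (2 : ℤ) = 1 := by
        rw [show (2 : ℤ) = ((2 : ℕ) : ℤ) by norm_num, zpow_natCast, ← hz2, pow_orderOf_eq_one]
      rw [this, one_zpow, one_mul, zpow_one]
  have hz1 : z ≠ 1 := by
    intro h
    rw [h, orderOf_one] at hz2
    omega
  obtain ⟨θ, hθ⟩ := Cfsg.Agent.KFacts.MulCo.CoZero.exists_equiv_co0 Cfsg.Agent.KFacts.MulSpor.NoDbl.M24 hperf hf
    (by
      rw [hker, Subgroup.zpowers_le]; exact hz)
    (by
      rw [hker]
      refine IsPGroup.of_card (n := 1) ?_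
      rw [Nat.card_zpowers, hz2, pow_one])
    (by
      rw [hker, Ne, Subgroup.zpowers_eq_bot]
      exact hz1)
  have hθz : θ z = negCo0 := by
    have h1 : θ z ∈ Subgroup.center Co0 := by
      rw [← QuotientGroup.eq_one_iff (N := Subgroup.center Co0)]
      have h2 := hθ z
      rw [QuotientGroup.mk'_apply] at h2
      rw [h2]
      have h3 : z ∈ f.ker := by rw [hker]; exact Subgroup.mem_zpowers z
      exact h3
    rcases eq_one_or_neg_of_mem_center h1 with h | h
    · exact absurd ((map_eq_one_iff θ θ.injective).1 h) hz1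
    · exact h
  refine no_subgroup (θ.toMonoidHom.comp R.subtype) (z := ⟨z, hzR⟩) (fun h => hz1 (congrArg Subtype.val h)) hθz hcard
    ?_ ?_
  · intro x hx
    rcases hzp _ (hcen x x.2 fun y hy => congrArg Subtype.val (hx ⟨y, hy⟩)) with h | h
    · exact Or.inl (Subtype.ext h)
    · exact Or.inr (Subtype.ext h)
  · intro x y
    rcases hzp _ (hcomm x x.2 y y.2) with h | h
    · left
      exact Subtype.ext (commutatorElement_eq_one_iff_mul_comm.1 h)
    · right
      apply Subtype.ext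
      show (x : P) * y = z * ((y : P) * x)
      rw [← h, commutatorElement_def]
      group

end Cfsg.Agent.H779.CoRow
end

-- part: H888/C6/Out
section
/-!
# The simple quotient of a quasisimple overgroup is classical in the characteristic of the field (helper888)
-/

set_option autoImplicit false

namespace Cfsg.Agent.H888.C6

open Cfsg Cfsg.Geo Matrix Cfsg.Agent.ClassicalGeometry.SympBasic Cfsg.Agent.H920 Cfsg.Agent.H919
open scoped commutatorElement

universe u

variable {ι : Type} [Fintype ι] [DecidableEq ι] {F : Type u} [Field F] {R : Subgroup (GL ι F)} {k : ℕ}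
variable {C : Coord R 2 k} {q : V2 k → ZMod 2} {Y P : Subgroup (GL ι F)}

theorem N0_ge {k : ℕ} (hk : 5 ≤ k) : 495 ≤ N0 k := by
  have h1 := two_N0 (k := k) (by omega)
  have h2 : 32 ≤ 2 ^ k := by
    calc 32 = 2 ^ 5 := by norm_num
      _ ≤ 2 ^ k := Nat.pow_le_pow_right (by norm_num) hk
  obtain ⟨n, hn⟩ : ∃ n, 2 ^ k = n + 32 := ⟨2 ^ k - 32, by omega⟩
  rw [hn] at h1
  have h3 : n + 32 - 2 = n + 30 := by omega
  rw [h3] at h1
  nlinarith only [h1]

theorem kk_le {j k : ℕ} (hj : j ≤ k) : j * (j + 1) ≤ k * (k + 1) := Nat.mul_le_mul hj (by omega)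

namespace Over

variable (O : Over C q Y P)

include O

theorem pow_dvd' [Finite F] {m : ℕ} (hm : m ≤ k * (k + 1)) : 2 ^ m ∣ Nat.card (QY P) :=
  (pow_dvd_pow 2 hm).trans O.pow_dvd


theorem not_alt [Finite F] {p : ℕ} [CharP F p] (h : IsAlternating (QY P)) : False := by
  obtain ⟨N, -, ⟨e⟩⟩ := h
  have h4 := O.four
  have h1 : N0 k ≤ N := by
    have := O.perm_deg (Ω := Fin N) ((alternatingGroup (Fin N)).subtype.comp e.toMonoidHom)
      (Subtype.val_injective.comp e.injective)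
    rwa [Fintype.card_fin] at this
  have h2 := two_N0 (k := k) (by omega)
  refine H680.CSix.alt_row (k := k) (N := N) h4 (by rw [← h2]; omega) (F := F) (p := p) fun r hr hr2 => ?_
  exact (O.pr hr hr2).sub e.symm.toMonoidHom e.symm.injective

theorem not_F4 [Finite F] {K : Type} [Field K] [Fintype K] (hK : Fintype.card K = 2)
    (e : Nonempty (QY P ≃* ↥(Lie.chevF4.group K))) : False := by
  obtain ⟨e⟩ := e
  have h4 := O.four
  by_cases hk5 : k ≤ 5
  · have hchar : CharP K 2 := by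
      have : Fact (Nat.Prime 2) := ⟨Nat.prime_two⟩
      exact charP_of_card_eq_prime (by rw [hK])
    have : Finite ↥(Lie.chevF4.group K) := Finite.of_equiv _ e.toEquiv
    exact O.not_filt_F4 hk5 ((H684.FiltExc.filtD_F4 K 2).of_equiv e.symm)
  · have h1 := O.pow_dvd' (m := 42) (kk_le (j := 6) (by omega))
    rw [Nat.card_congr e.toEquiv, (OrdDiv.table.{0}).f4 K 2 hK] at h1
    revert h1
    norm_num

theorem not_E6 [Finite F] {K : Type} [Field K] [Fintype K] (hK : Fintype.card K = 2 ^ 2)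
    (e : Nonempty (QY P ≃* ↥(Lie.twistedE6 K 2))) : False := by
  obtain ⟨e⟩ := e
  have h4 := O.four
  have hpp : IsPrimePow 2 := Nat.prime_two.isPrimePow
  by_cases hk5 : k ≤ 5
  · have hchar : CharP K 2 := by
      have : Fact (Nat.Prime 2) := ⟨Nat.prime_two⟩
      exact charP_of_card_eq_prime_pow (f := 2) (by rw [hK])
    have : Finite ↥(Lie.twistedE6 K 2) := Finite.of_equiv _ e.toEquiv
    exact O.not_filt_F4 hk5 ((H684.FiltExc.filtD_twE6 hpp hK 2).of_equiv e.symm)
  · have h1 := O.pow_dvd' (m := 42) (kk_le (j := 6) (by omega))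
    have h2 := (OrdDiv.table.{0}).te6 K 2 hpp hK
    rw [Nat.card_congr e.toEquiv] at h1
    have h3 := h1.trans (Dvd.intro_left _ h2)
    revert h3
    norm_num

theorem not_B [Finite F] (h : Spor.IsoB (QY P)) : False := by
  have h4 := O.four
  have := O.nonempty
  by_cases hk5 : k ≤ 5
  · have h1 := bd_baby O.tc.two h _ (pr_matrix P 2)
    rw [O.card, ← pow_mul] at h1
    have h2 := (Nat.pow_le_pow_iff_right (by norm_num : 1 < 2)).1 h1
    omega
  · have h1 := O.pow_dvd' (m := 42) (kk_le (j := 6) (by omega))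
    rw [(OrdDiv.table.{u}).spor _ (.b, 4154781481226426191177580544000000) (by decide) h] at h1
    revert h1
    norm_num

theorem not_Co1 [Finite F] (hcardR : Nat.card R = 2 ^ (1 + 2 * k)) (h : Spor.IsoCo1 (QY P)) : False := by
  have h4 := O.four
  have := O.nonempty
  by_cases hk4 : k = 4
  · subst hk4
    obtain ⟨z, hz⟩ := O.exists_neg
    have hzP : (z : GL ι F) ∈ P := O.le (O.yc.le z.2)
    have hRP : R ≤ P := O.yc.le.trans O.le
    obtain ⟨z', hz'⟩ : ∃ z' : P, (z' : GL ι F) = z := ⟨⟨z, hzP⟩, rfl⟩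
    have hval : ((z' : GL ι F) : Matrix ι ι F) = -1 := by rw [hz', hz]
    have hzsc : (z' : GL ι F) ∈ scalars ι F := by
      rw [mem_scalars_iff]
      exact ⟨-1, by rw [Units.val_neg, Units.val_one, neg_smul, one_smul]; exact hval⟩
    have hne : z' ≠ 1 := by
      intro h1
      rw [h1] at hval
      obtain ⟨i⟩ := this
      have h3 := congrFun (congrFun hval i) i
      rw [Matrix.neg_apply, Subgroup.coe_one, Units.val_one, Matrix.one_apply_eq] at h3
      exact neg_one_ne O.tc.two h3.symm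
    have hsq : z' ^ 2 = 1 := by
      apply Subtype.ext
      apply Units.ext
      change ((z' : GL ι F) : Matrix ι ι F) ^ 2 = 1
      rw [hval, neg_one_sq]
    have hord : orderOf z' = 2 := by
      have : Fact (Nat.Prime 2) := ⟨Nat.prime_two⟩
      exact orderOf_eq_prime hsq hne
    have hcen : z' ∈ Subgroup.center P := by
      rw [Subgroup.mem_center_iff]
      intro g
      exact (Subtype.ext (H920.scalars_comm hzsc g)).symm
    -- the scalars
    have hpm : ∀ x : P, ((x : GL ι F) : Matrix ι ι F) = 1 ∨ ((x : GL ι F) : Matrix ι ι F) = -1 →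
        x ∈ Subgroup.zpowers z' := by
      intro x hx
      rcases hx with hx | hx
      · have : x = 1 := Subtype.ext (Units.ext hx)
        rw [this]; exact Subgroup.one_mem _
      · have : x = z' := Subtype.ext (Units.ext (hx.trans hval.symm))
        rw [this]; exact Subgroup.mem_zpowers _
    have heq : Subgroup.zpowers z' = (scalars ι F).subgroupOf P := by
      apply le_antisymm
      · rw [Subgroup.zpowers_le, Subgroup.mem_subgroupOf]
        exact hzsc
      · intro x hx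
        exact hpm x (O.ker _ (Subgroup.mem_subgroupOf.1 hx) x.2)
    have hnorm : (Subgroup.zpowers z').Normal := by rw [heq]; infer_instance
    have hco : Spor.IsoCo1 (P ⧸ Subgroup.zpowers z') := by
      obtain ⟨e⟩ := h
      exact ⟨(QuotientGroup.quotientMulEquivOfEq heq).trans e⟩
    refine H779.CoRow.co1_row O.commP z' hcen hord hco (R.subgroupOf P) ?_ ?_ ?_ ?_
    · rw [Subgroup.mem_subgroupOf, hz']; exact z.2
    · rw [Nat.card_congr (Subgroup.subgroupOfEquivOfLe hRP).toEquiv, hcardR]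
    · intro x hx hxy
      apply hpm
      refine O.tc.ker ⟨(x : GL ι F), Subgroup.mem_subgroupOf.1 hx⟩ ?_
      by_contra h0
      obtain ⟨w, hw⟩ := exists_bf_one h0
      obtain ⟨y, rfl⟩ := C.surj w
      have h1 := comm_sF C y ⟨(x : GL ι F), Subgroup.mem_subgroupOf.1 hx⟩
      rw [hw, sF_one, neg_smul, one_smul] at h1
      have h2 := hxy ⟨(y : GL ι F), hRP y.2⟩ (Subgroup.mem_subgroupOf.2 y.2)
      have h3 : ((x : GL ι F) : Matrix ι ι F) * ((y : GL ι F) : Matrix ι ι F) =
          ((y : GL ι F) : Matrix ι ι F) * ((x : GL ι F) : Matrix ι ι F) :=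
        congrArg (fun g : P => ((g : GL ι F) : Matrix ι ι F)) h2
      have h5 : ((y : GL ι F) : Matrix ι ι F) * ((x : GL ι F) : Matrix ι ι F) =
          -(((y : GL ι F) : Matrix ι ι F) * ((x : GL ι F) : Matrix ι ι F)) := by
        conv_lhs => rw [h1]
        rw [h3]
      have h6 : (2 : F) • (((y : GL ι F) : Matrix ι ι F) * ((x : GL ι F) : Matrix ι ι F)) = 0 := by
        rw [two_smul]
        nth_rewrite 1 [h5]
        exact neg_add_cancel _
      have h7 := (smul_eq_zero.1 h6).resolve_left O.tc.two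
      exact ((y : GL ι F) * (x : GL ι F)).ne_zero h7
    · intro x hx y hy
      apply hpm
      have hx' := Subgroup.mem_subgroupOf.1 hx
      have hy' := Subgroup.mem_subgroupOf.1 hy
      have h1 := comm_sF C ⟨(x : GL ι F), hx'⟩ ⟨(y : GL ι F), hy'⟩
      set c := sF F (bf (C.φ ⟨(x : GL ι F), hx'⟩) (C.φ ⟨(y : GL ι F), hy'⟩)) with hc
      have h2 : ((⁅x, y⁆ : P) : GL ι F) = (x : GL ι F) * y * ((y : GL ι F) * x)⁻¹ := by
        rw [commutatorElement_def]
        change (x : GL ι F) * y * (x : GL ι F)⁻¹ * (y : GL ι F)⁻¹ = _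
        group
      have h3 : (((⁅x, y⁆ : P) : GL ι F) : Matrix ι ι F) = c • 1 := by
        rw [h2, Units.val_mul, Units.val_mul]
        change ((x : GL ι F) : Matrix ι ι F) * ((y : GL ι F) : Matrix ι ι F) * _ = _
        have h5 : ((x : GL ι F) : Matrix ι ι F) * ((y : GL ι F) : Matrix ι ι F) =
            c • (((y : GL ι F) * (x : GL ι F) : GL ι F) : Matrix ι ι F) := by
          rw [Units.val_mul]; exact h1
        rw [h5, smul_mul_assoc, ← Units.val_mul, mul_inv_cancel, Units.val_one]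
      rcases z2 (bf (C.φ ⟨(x : GL ι F), hx'⟩) (C.φ ⟨(y : GL ι F), hy'⟩)) with h5 | h5
      · left
        rw [h3, hc, h5, sF_zero, one_smul]
      · right
        rw [h3, hc, h5, sF_one, neg_smul, one_smul]
  · have h1 := O.pow_dvd' (m := 30) (kk_le (j := 5) (by omega))
    rw [(OrdDiv.table.{u}).spor _ (.co1, 4157776806543360000) (by decide) h] at h1
    revert h1
    norm_num

theorem not_E7 [Fintype F] {p : ℕ} [Fact p.Prime] (hp2 : p ≠ 2) (hF : Fintype.card F = p) [CharP F p]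
    {K : Type} [Field K] [Fintype K] (hodd : Odd (Fintype.card K))
    (e : Nonempty (QY P ≃* ↥(Lie.chevE7.group K))) : False := by
  have h4 := O.four
  obtain ⟨s, hs, hs2, hchar⟩ := exists_odd_char K hodd
  by_cases hk4 : k = 4
  · subst hk4
    have h16 : Fintype.card ι = 16 := O.card
    by_cases hsF : (s : F) = 0
    · have hsp : p = s := (Nat.prime_dvd_prime_iff_eq Fact.out hs).1 ((CharP.cast_eq_zero_iff F p s).1 hsF)
      subst hsp
      refine H680.CSix.e7_defining (p := p) hp2 hF e ?_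
      have h1 : Nat.card (QY P) ∣ Nat.card P := Subgroup.card_quotient_dvd_card _
      have h2 : Nat.card P ∣ Nat.card (GL ι F) := Subgroup.card_subgroup_dvd_card _
      rw [← Nat.card_congr (H7.ESixRep.reind h16 F).toEquiv]
      exact h1.trans h2
    · obtain ⟨e⟩ := e
      exact not_e7_cross (K := F) hs hsF e (n := 16) le_rfl (O.pr hs hs2)
  · obtain ⟨e⟩ := e
    obtain ⟨ρ, hρ⟩ := H7.ESixRep.of_le (D := Lie.chevE7) (n := 133) (by decide) _ e
    have h1 := O.linear_deg (two_ne_of_char hs hs2) ρ hρ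
    rw [Fintype.card_fin] at h1
    have h2 := N0_ge (k := k) (by omega)
    omega

/-- **The outcome.** -/
theorem outcome [Fintype F] {p : ℕ} [Fact p.Prime] (hp2 : p ≠ 2) (hF : Fintype.card F = p) [CharP F p]
    (hcardR : Nat.card R = 2 ^ (1 + 2 * k)) (hT : IsKnownSimple' (QY P)) : ClDeg (2 ^ k) p (QY P) := by
  have h4 := O.four
  have h16 : 16 ≤ 2 ^ k := by
    calc 16 = 2 ^ 4 := by norm_num
      _ ≤ 2 ^ k := Nat.pow_le_pow_right (by norm_num) h4
  rcases even_known.{u} hT O.nonabelian (O.pow_dvd' (m := 20) (kk_le (j := 4) (by omega))) with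
    h | h | ⟨s, hs, hs2, h⟩ | ⟨K, _, _, hK, e⟩ | ⟨K, _, _, hK, e⟩ | ⟨K, _, _, hK, e⟩ | h | h
  · exact (O.not_away h).elim
  · exact (O.not_alt (p := p) h).elim
  · have h1 := O.clDeg hs hs2 h
    by_cases hsF : (s : F) = 0
    · have hsp : p = s := (Nat.prime_dvd_prime_iff_eq Fact.out hs).1 ((CharP.cast_eq_zero_iff F p s).1 hsF)
      rw [hsp]; exact h1
    · exact (H269.C6Cross.cross h16 hs hs2 h1 hsF (O.pr hs hs2)).elim
  · exact (O.not_E7 hp2 hF hK e).elim
  · exact (O.not_F4 hK e).elim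
  · exact (O.not_E6 hK e).elim
  · exact (O.not_Co1 hcardR h).elim
  · exact (O.not_B h).elim

end Over

end Cfsg.Agent.H888.C6
end

-- part: H742/ClOrd
section
/-!
# Classical groups of large natural degree whose order divides that of `PΩ⁺_2m(p)` or `PSp_2m(p)` (task 1734)

* `plus_card`: a classical group in characteristic `p` of natural degree at least `2m` whose order divides
  `|PΩ⁺_2m(p)|` has the same order;
* `sp_cases`: if its order divides `|PSp_2m(p)|` then it has the same order or it is `PΩ⁺_2m(p)` or `PΩ⁻_2m(p)`.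
-/

set_option autoImplicit false

universe u v

namespace Cfsg.Agent.H742.ClOrd

open Cfsg Finset

/-- A prime `r` with `p` of order `e` modulo `r`. -/
structure PPD (p e r : ℕ) : Prop where
  prime : r.Prime
  iff : ∀ j, r ∣ p ^ j - 1 ↔ e ∣ j
  lt : e < r
  ndvd : ¬ r ∣ p

theorem exists_ppd {p e : ℕ} (hp : p.Prime) (hp2 : p ≠ 2) (he : 3 ≤ e) : ∃ r, PPD p e r := by
  obtain ⟨r, h1, h2, h3, h4⟩ := Cfsg.Agent.Lib.Zsigmondy.exists_primitive (a := p) (n := e) hp.two_le (by omega)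
    (fun h => by omega) (fun h => hp2 h.1)
  refine ⟨r, h1, h2, ?_, h4⟩
  have h5 := Nat.le_of_dvd (by have := h1.two_le; omega) h3
  have := h1.two_le
  omega

variable {p e r : ℕ}

theorem PPD.pow_iff (h : PPD p e r) (f j : ℕ) : r ∣ (p ^ f) ^ j - 1 ↔ e ∣ f * j := by
  rw [← pow_mul]
  exact h.iff _

theorem PPD.not_dvd_of_lt (h : PPD p e r) {n : ℕ} (hn : 0 < n) (hne : n < e) : ¬ r ∣ n := fun h' => by
  have h1 := Nat.le_of_dvd hn h'
  have := h.lt
  omega

/-- `r` divides `q ^ j + 1` when `e = 2 g j`, `q = p ^ g`. -/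
theorem PPD.dvd_add_one {g j : ℕ} (h : PPD p (2 * (g * j)) r) (hgj : 0 < g * j) : r ∣ (p ^ g) ^ j + 1 := by
  have h1 : r ∣ p ^ (2 * (g * j)) - 1 := (h.iff _).2 dvd_rfl
  have h2 : p ^ (2 * (g * j)) - 1 = ((p ^ g) ^ j + 1) * ((p ^ g) ^ j - 1) := by
    rw [← pow_mul, mul_comm 2, pow_mul, ← Nat.sq_sub_sq, one_pow]
  rw [h2] at h1
  rcases (Nat.Prime.dvd_mul h.prime).1 h1 with h3 | h3
  · exact h3
  · rw [h.pow_iff] at h3
    have := Nat.le_of_dvd hgj h3
    omega

theorem PPD.dvd_of_mul (h : PPD p e r) {a N M : ℕ} (ha : ¬ r ∣ a) (hN : a * N = M) (hM : r ∣ M) : r ∣ N := by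
  rw [← hN] at hM
  exact ((Nat.Prime.dvd_mul h.prime).1 hM).resolve_left ha

theorem PPD.not_dvd_four (h : PPD p e r) (he : 4 ≤ e) (N : ℕ) : ¬ r ∣ Nat.gcd 4 N := fun h' =>
  h.not_dvd_of_lt (by norm_num : 0 < 3 + 1) (by
    have := h.lt
    rcases Nat.lt_or_ge 4 e with h4 | h4
    · exact h4
    · exfalso
      have h5 : r ∣ 4 := h'.trans (Nat.gcd_dvd_left _ _)
      have h6 := Nat.le_of_dvd (by norm_num) h5
      omega) (h'.trans (Nat.gcd_dvd_left _ _))

theorem PPD.not_dvd_two (h : PPD p e r) (he : 2 ≤ e) (N : ℕ) : ¬ r ∣ Nat.gcd 2 N := fun h' => by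
  have h5 : r ∣ 2 := h'.trans (Nat.gcd_dvd_left _ _)
  have h6 := Nat.le_of_dvd (by norm_num) h5
  have := h.lt
  omega

/-! ### Exponents of `PΩ⁺_2m(p)` and `PSp_2m(p)` -/

theorem card_psp (F : Type u) [Field F] [Fintype F] (m : ℕ) (hm : 1 ≤ m) :
    Nat.gcd 2 (Fintype.card F - 1) * Nat.card (PSp m F)
      = (Fintype.card F) ^ (m ^ 2) * ∏ i ∈ Finset.range m, ((Fintype.card F) ^ (2 * (i + 1)) - 1) := by
  rw [← Cfsg.Agent.S0245.result (F := F) rfl m, ← Cfsg.Agent.S0246.result (F := F) rfl m hm]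
  exact Subgroup.card_mul_index (Subgroup.center (Matrix.symplecticGroup (Fin m) F))

theorem plus_exp (h : PPD p e r) {F : Type u} [Field F] [Fintype F] (hF : Fintype.card F = p) {m : ℕ} (hm : 4 ≤ m)
    (hd : r ∣ Nat.card (Cfsg.POmega F (Cfsg.quadFormPlus m F))) : e ≤ 2 * m - 2 := by
  have h1 := Cfsg.Agent.S0293.result hF m hm
  have h2 : r ∣ p ^ (m * (m - 1)) * (p ^ m - 1) * ∏ i ∈ Finset.range (m - 1), (p ^ (2 * (i + 1)) - 1) := by
    rw [← h1]; exact hd.mul_left _
  rcases (Nat.Prime.dvd_mul h.prime).1 h2 with h3 | h3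
  · rcases (Nat.Prime.dvd_mul h.prime).1 h3 with h4 | h4
    · exact absurd (h.prime.dvd_of_dvd_pow h4) h.ndvd
    · have := Nat.le_of_dvd (by omega) ((h.iff _).1 h4)
      omega
  · obtain ⟨i, hi, h4⟩ := (h.prime.prime.dvd_finsetProd_iff _).1 h3
    have h5 := Nat.le_of_dvd (by omega) ((h.iff _).1 h4)
    have := Finset.mem_range.1 hi
    omega

theorem sp_exp (h : PPD p e r) {F : Type u} [Field F] [Fintype F] (hF : Fintype.card F = p) {m : ℕ} (hm : 1 ≤ m)
    (hd : r ∣ Nat.card (PSp m F)) : e ≤ 2 * m ∧ (Odd e → e ≤ m) := by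
  have h1 := card_psp F m hm
  rw [hF] at h1
  have h2 : r ∣ p ^ (m ^ 2) * ∏ i ∈ Finset.range m, (p ^ (2 * (i + 1)) - 1) := by
    rw [← h1]; exact hd.mul_left _
  rcases (Nat.Prime.dvd_mul h.prime).1 h2 with h3 | h3
  · exact absurd (h.prime.dvd_of_dvd_pow h3) h.ndvd
  · obtain ⟨i, hi, h4⟩ := (h.prime.prime.dvd_finsetProd_iff _).1 h3
    have h5 := (h.iff _).1 h4
    have h6 := Nat.le_of_dvd (by omega) h5
    have h7 := Finset.mem_range.1 hi
    refine ⟨by omega, fun ho => ?_⟩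
    have h8 : e ∣ i + 1 := (Nat.Coprime.dvd_mul_left (Nat.coprime_two_right.2 ho)).1 h5
    have := Nat.le_of_dvd (by omega) h8
    omega

/-! ### Primes dividing the orders of the classical groups -/

variable {K : Type v} [Field K] [Fintype K]

theorem dvd_psl {f d j : ℕ} (hK : Fintype.card K = p ^ f) (hd : 2 ≤ d) (hj : 2 ≤ j) (hjd : j ≤ d) (hf : 1 ≤ f)
    (h : PPD p (f * j) r) : r ∣ Nat.card (Matrix.ProjectiveSpecialLinearGroup (Fin d) K) := by
  have h1 := Cfsg.Agent.S0243.result hK d hd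
  have hq : ¬ r ∣ p ^ f - 1 := by
    rw [h.iff]
    intro h2
    have h3 := Nat.le_of_dvd (by omega) h2
    have h4 : f * 2 ≤ f * j := Nat.mul_le_mul_left f hj
    omega
  have h2 : r ∣ (p ^ f - 1) * Nat.card (Matrix.ProjectiveSpecialLinearGroup (Fin d) K) := by
    refine h.dvd_of_mul (fun h' => hq (h'.trans (Nat.gcd_dvd_right d _))) h1 ?_
    have h3 : r ∣ (p ^ f) ^ d - (p ^ f) ^ ((⟨d - j, by omega⟩ : Fin d) : ℕ) := by
      have h4 : (p ^ f) ^ d - (p ^ f) ^ (d - j) = (p ^ f) ^ (d - j) * ((p ^ f) ^ j - 1) := by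
        rw [Nat.mul_sub, mul_one, ← pow_add]
        congr 2
        omega
      show r ∣ (p ^ f) ^ d - (p ^ f) ^ (d - j)
      rw [h4]
      exact ((h.pow_iff _ _).2 dvd_rfl).mul_left _
    exact h3.trans (Finset.dvd_prod_of_mem (fun i : Fin d => (p ^ f) ^ d - (p ^ f) ^ (i : ℕ)) (Finset.mem_univ _))
  exact ((Nat.Prime.dvd_mul h.prime).1 h2).resolve_left hq

theorem dvd_psu {g d j : ℕ} (hK : Fintype.card K = (p ^ g) ^ 2) (hd : 2 ≤ d) (hj : 2 ≤ j) (hjd : j ≤ d)
    (hg : 1 ≤ g) (hjo : Odd j) (h : PPD p (2 * (g * j)) r) : r ∣ Nat.card (Cfsg.PSU d K (p ^ g)) := by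
  have h1 := Cfsg.Agent.S0280.result hK d hd
  have hgj : g * 2 ≤ g * j := Nat.mul_le_mul_left g hj
  have hq : ¬ r ∣ p ^ g + 1 := by
    intro h2
    have h3 : r ∣ (p ^ g) ^ 2 - 1 := by
      have h4 : (p ^ g) ^ 2 - 1 = (p ^ g + 1) * (p ^ g - 1) := by rw [← Nat.sq_sub_sq, one_pow]
      rw [h4]
      exact h2.mul_right _
    rw [h.pow_iff] at h3
    have h5 := Nat.le_of_dvd (by omega) h3
    omega
  have h2 : r ∣ (p ^ g + 1) * Nat.card (Cfsg.PSU d K (p ^ g)) := by
    refine h.dvd_of_mul (fun h' => hq (h'.trans (Nat.gcd_dvd_right d _))) h1 ?_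
    refine Dvd.dvd.mul_left ?_ _
    obtain ⟨k, rfl⟩ : ∃ k, j = k + 1 := ⟨j - 1, by omega⟩
    have hke : Even k := by
      rcases hjo with ⟨c, hc⟩
      exact ⟨c, by omega⟩
    refine Dvd.dvd.trans ?_ (Finset.dvd_prod_of_mem _ (Finset.mem_range.2 (show k < d by omega)))
    rw [if_pos hke]
    exact h.dvd_add_one (by omega)
  exact ((Nat.Prime.dvd_mul h.prime).1 h2).resolve_left hq

theorem dvd_psp {f k : ℕ} (hK : Fintype.card K = p ^ f) (hk : 1 ≤ k) (hf : 1 ≤ f)
    (h : PPD p (2 * k * f) r) : r ∣ Nat.card (PSp k K) := by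
  have h1 := card_psp K k hk
  have hkf : 1 ≤ k * f := Nat.one_le_iff_ne_zero.2 (mul_ne_zero (by omega) (by omega))
  refine h.dvd_of_mul (h.not_dvd_two (by linarith only [hkf]) _) h1 ?_
  refine Dvd.dvd.mul_left ?_ _
  refine Dvd.dvd.trans ?_ (Finset.dvd_prod_of_mem _ (Finset.mem_range.2 (show k - 1 < k by omega)))
  rw [hK, h.pow_iff, Nat.sub_add_cancel hk, mul_comm f]

theorem dvd_odd {f k : ℕ} (hK : Fintype.card K = p ^ f) (ho : Odd (p ^ f)) (hk : 3 ≤ k) (hf : 1 ≤ f)
    (h : PPD p (2 * k * f) r) : r ∣ Nat.card (Cfsg.POmega K (Cfsg.quadFormOdd k K)) := by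
  have h1 := Cfsg.Agent.S0292.result hK ho k hk
  refine h.dvd_of_mul (a := 2) (fun h' => ?_) h1 ?_
  · have h2 := Nat.le_of_dvd (by norm_num) h'
    have h3 := h.lt
    nlinarith only [hk, hf, h2, h3]
  refine Dvd.dvd.mul_left ?_ _
  refine Dvd.dvd.trans ?_ (Finset.dvd_prod_of_mem _ (Finset.mem_range.2 (show k - 1 < k by omega)))
  rw [h.pow_iff, Nat.sub_add_cancel (by omega), mul_comm f]

theorem dvd_plus {f k : ℕ} (hK : Fintype.card K = p ^ f) (hk : 4 ≤ k) (hf : 1 ≤ f)
    (h : PPD p (2 * (k - 1) * f) r) : r ∣ Nat.card (Cfsg.POmega K (Cfsg.quadFormPlus k K)) := by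
  have h1 := Cfsg.Agent.S0293.result hK k hk
  have h0 : 3 * 1 ≤ (k - 1) * f := Nat.mul_le_mul (by omega) hf
  refine h.dvd_of_mul (h.not_dvd_four (by rw [mul_assoc]; omega) _) h1 ?_
  refine Dvd.dvd.mul_left ?_ _
  refine Dvd.dvd.trans ?_ (Finset.dvd_prod_of_mem _ (Finset.mem_range.2 (show k - 2 < k - 1 by omega)))
  have h2 : k - 2 + 1 = k - 1 := by omega
  rw [h.pow_iff, h2, mul_comm f]

theorem dvd_minus {f k : ℕ} (hK : Fintype.card K = p ^ f) (hk : 4 ≤ k) (hf : 1 ≤ f) (a b : K)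
    (hab : ∀ z₁ z₂ : K, z₁ ^ 2 + a * z₁ * z₂ + b * z₂ ^ 2 = 0 → z₁ = 0 ∧ z₂ = 0)
    (h : PPD p (2 * (f * k)) r) : r ∣ Nat.card (Cfsg.POmega K (Cfsg.quadFormMinus (k - 1) K a b)) := by
  have h1 := Cfsg.Agent.S0294.result hK k hk a b hab
  have h0 : 1 * 4 ≤ f * k := Nat.mul_le_mul hf hk
  refine h.dvd_of_mul (h.not_dvd_four (by omega) _) h1 ?_
  exact ((h.dvd_add_one (by omega)).mul_left _).mul_right _

/-! ### The main theorems -/

theorem exists_card_eq [CharP K p] (hp : p.Prime) : ∃ f, 1 ≤ f ∧ Fintype.card K = p ^ f := by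
  have := Fact.mk hp
  obtain ⟨n, -, hn⟩ := FiniteField.card K p
  exact ⟨n, n.2, hn⟩

theorem exists_pow_of_sq {q f : ℕ} (hp : p.Prime) (h : p ^ f = q ^ 2) (hf : 1 ≤ f) : ∃ g, 1 ≤ g ∧ q = p ^ g := by
  have h1 : q ∣ p ^ f := by rw [h]; exact dvd_pow_self q two_ne_zero
  obtain ⟨g, -, hg⟩ := (Nat.dvd_prime_pow hp).1 h1
  refine ⟨g, ?_, hg⟩
  by_contra hcon
  obtain rfl : g = 0 := by omega
  rw [hg, pow_zero, one_pow] at h
  have := Nat.one_lt_pow (by omega : f ≠ 0) hp.one_lt
  omega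

/-- Every classical group of natural degree at least `2m ≥ 16` has an order divisible by a prime `r` modulo which `p`
has order at least `2m`, except `PΩ⁺_2m(p)`. -/
theorem exists_large {m : ℕ} (hm : 8 ≤ m) (hp : p.Prime) (hp2 : p ≠ 2) {T : Type v} [Group T]
    (hT : H888.C6.ClDeg (2 * m) p T) :
    (∃ e r, 2 * m < e ∧ PPD p e r ∧ r ∣ Nat.card T) ∨
    (∃ e r, e = 2 * m - 1 ∧ PPD p e r ∧ r ∣ Nat.card T) ∨
    (∃ r, PPD p (2 * m) r ∧ r ∣ Nat.card T ∧
      ((∃ (K : Type) (_ : Field K) (_ : Fintype K), Fintype.card K = p ∧ Nonempty (T ≃* PSp m K)) ∨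
       (∃ (K : Type) (_ : Field K) (_ : Fintype K), Fintype.card K = p ∧
          Nonempty (T ≃* POmega K (quadFormOdd m K))) ∨
       (∃ (K : Type) (_ : Field K) (_ : Fintype K), Fintype.card K = p ∧
          Nonempty (T ≃* POmega K (quadFormPlus (m + 1) K))) ∨
       (∃ (K : Type) (_ : Field K) (_ : Fintype K) (a b : K), Fintype.card K = p ∧
          (∀ z₁ z₂ : K, z₁ ^ 2 + a * z₁ * z₂ + b * z₂ ^ 2 = 0 → z₁ = 0 ∧ z₂ = 0) ∧
          Nonempty (T ≃* POmega K (quadFormMinus (m - 1) K a b))))) ∨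
    (∃ (K : Type) (_ : Field K) (_ : Fintype K), Fintype.card K = p ∧
      Nonempty (T ≃* POmega K (quadFormPlus m K))) := by
  have hmul : ∀ {f k n : ℕ}, 1 ≤ f → n ≤ k → (f = 1 ∧ k = n) ∨ (f = 1 ∧ n < k) ∨ 2 * k ≤ f * k := by
    intro f k n hf hk
    rcases Nat.lt_or_ge f 2 with h | h
    · obtain rfl : f = 1 := by omega
      rcases Nat.eq_or_lt_of_le hk with h1 | h1
      · exact Or.inl ⟨rfl, h1.symm⟩
      · exact Or.inr (Or.inl ⟨rfl, h1⟩)
    · exact Or.inr (Or.inr (Nat.mul_le_mul_right k h))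
  rcases hT with h | h | h | h | h | h
  · -- linear
    obtain ⟨K, _, _, _, d, hd, ⟨e⟩⟩ := h
    obtain ⟨f, hf, hK⟩ := exists_card_eq (K := K) hp
    have hc := Nat.card_congr e.toEquiv
    by_cases h1 : f = 1 ∧ d = 2 * m
    · obtain ⟨rfl, rfl⟩ := h1
      obtain ⟨r, hr⟩ := exists_ppd hp hp2 (e := 1 * (2 * m - 1)) (by omega)
      refine Or.inr (Or.inl ⟨_, r, by omega, hr, ?_⟩)
      rw [hc]
      exact dvd_psl hK (by omega) (by omega) (by omega) le_rfl hr
    · have h2 : 2 * m < f * d := by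
        rcases hmul hf hd with ⟨h3, h4⟩ | ⟨h3, h4⟩ | h3
        · exact absurd ⟨h3, h4⟩ h1
        · rw [h3]; omega
        · omega
      obtain ⟨r, hr⟩ := exists_ppd hp hp2 (e := f * d) (by omega)
      refine Or.inl ⟨_, r, h2, hr, ?_⟩
      rw [hc]
      exact dvd_psl hK (by omega) (by omega) le_rfl hf hr
  · -- unitary
    obtain ⟨K, _, _, _, d, q, hq, hd, ⟨e⟩⟩ := h
    obtain ⟨f, hf, hK⟩ := exists_card_eq (K := K) hp
    have hc := Nat.card_congr e.toEquiv
    obtain ⟨g, hg, rfl⟩ := exists_pow_of_sq hp (hK.symm.trans hq) hf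
    obtain ⟨j, hj1, hj2, hjo⟩ : ∃ j, 2 * m - 1 ≤ j ∧ j ≤ d ∧ Odd j := by
      rcases Nat.even_or_odd d with h1 | h1
      · refine ⟨d - 1, by omega, by omega, ?_⟩
        rcases h1 with ⟨c, hc⟩
        exact ⟨c - 1, by omega⟩
      · exact ⟨d, by omega, le_rfl, h1⟩
    have h3 : 1 * j ≤ g * j := Nat.mul_le_mul_right j hg
    obtain ⟨r, hr⟩ := exists_ppd hp hp2 (e := 2 * (g * j)) (by omega)
    refine Or.inl ⟨_, r, by omega, hr, ?_⟩
    rw [hc]
    exact dvd_psu hq (by omega) (by omega) hj2 hg hjo hr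
  · -- symplectic
    obtain ⟨K, _, _, _, k, hk, ⟨e⟩⟩ := h
    obtain ⟨f, hf, hK⟩ := exists_card_eq (K := K) hp
    have hc := Nat.card_congr e.toEquiv
    have h3 : 1 * k ≤ f * k := Nat.mul_le_mul_right k hf
    have h4 : 2 * k * f = 2 * (f * k) := by ring
    obtain ⟨r, hr⟩ := exists_ppd hp hp2 (e := 2 * k * f) (by omega)
    have hd : r ∣ Nat.card T := by
      rw [hc]
      exact dvd_psp hK (by omega) hf hr
    rcases hmul hf (show m ≤ k by omega) with ⟨rfl, rfl⟩ | ⟨rfl, h5⟩ | h5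
    · rw [mul_one] at hr
      rw [pow_one] at hK
      exact Or.inr (Or.inr (Or.inl ⟨r, hr, hd, Or.inl ⟨K, _, _, hK, ⟨e⟩⟩⟩))
    · exact Or.inl ⟨_, r, by omega, hr, hd⟩
    · exact Or.inl ⟨_, r, by omega, hr, hd⟩
  · -- odd orthogonal
    obtain ⟨K, _, _, _, k, hk, ⟨e⟩⟩ := h
    obtain ⟨f, hf, hK⟩ := exists_card_eq (K := K) hp
    have hc := Nat.card_congr e.toEquiv
    have h3 : 1 * k ≤ f * k := Nat.mul_le_mul_right k hf
    have h4 : 2 * k * f = 2 * (f * k) := by ring
    obtain ⟨r, hr⟩ := exists_ppd hp hp2 (e := 2 * k * f) (by omega)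
    have hd : r ∣ Nat.card T := by
      rw [hc]
      exact dvd_odd hK ((hp.odd_of_ne_two hp2).pow) (by omega) hf hr
    rcases hmul hf (show m ≤ k by omega) with ⟨rfl, rfl⟩ | ⟨rfl, h5⟩ | h5
    · rw [mul_one] at hr
      rw [pow_one] at hK
      exact Or.inr (Or.inr (Or.inl ⟨r, hr, hd, Or.inr (Or.inl ⟨K, _, _, hK, ⟨e⟩⟩)⟩))
    · exact Or.inl ⟨_, r, by omega, hr, hd⟩
    · exact Or.inl ⟨_, r, by omega, hr, hd⟩
  · -- plus
    obtain ⟨K, _, _, _, k, hk, ⟨e⟩⟩ := h
    obtain ⟨f, hf, hK⟩ := exists_card_eq (K := K) hp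
    have hc := Nat.card_congr e.toEquiv
    by_cases h0 : f = 1 ∧ k = m
    · obtain ⟨rfl, rfl⟩ := h0
      rw [pow_one] at hK
      exact Or.inr (Or.inr (Or.inr ⟨K, _, _, hK, ⟨e⟩⟩))
    have h3 : 1 * (k - 1) ≤ f * (k - 1) := Nat.mul_le_mul_right _ hf
    have h4 : 2 * (k - 1) * f = 2 * (f * (k - 1)) := by ring
    obtain ⟨r, hr⟩ := exists_ppd hp hp2 (e := 2 * (k - 1) * f) (by omega)
    have hd : r ∣ Nat.card T := by
      rw [hc]
      exact dvd_plus hK (by omega) hf hr
    by_cases h5 : f = 1 ∧ k = m + 1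
    · obtain ⟨rfl, rfl⟩ := h5
      rw [mul_one, Nat.add_sub_cancel] at hr
      rw [pow_one] at hK
      exact Or.inr (Or.inr (Or.inl ⟨r, hr, hd, Or.inr (Or.inr (Or.inl ⟨K, _, _, hK, ⟨e⟩⟩))⟩))
    · refine Or.inl ⟨_, r, ?_, hr, hd⟩
      rcases Nat.lt_or_ge f 2 with h6 | h6
      · obtain rfl : f = 1 := by omega
        (clear * - hk h0 h5; omega)
      · have h7 : 2 * (k - 1) ≤ f * (k - 1) := Nat.mul_le_mul_right _ h6
        (clear * - hm hk h4 h7; omega)
  · -- minus
    obtain ⟨K, _, _, _, k, a, b, hk, hab, ⟨e⟩⟩ := h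
    obtain ⟨f, hf, hK⟩ := exists_card_eq (K := K) hp
    have hc := Nat.card_congr e.toEquiv
    have h3 : 1 * k ≤ f * k := Nat.mul_le_mul_right k hf
    obtain ⟨r, hr⟩ := exists_ppd hp hp2 (e := 2 * (f * k)) (by omega)
    have hd : r ∣ Nat.card T := by
      rw [hc]
      exact dvd_minus hK (by omega) hf a b hab hr
    rcases hmul hf (show m ≤ k by omega) with ⟨rfl, rfl⟩ | ⟨rfl, h5⟩ | h5
    · rw [one_mul] at hr
      rw [pow_one] at hK
      exact Or.inr (Or.inr (Or.inl ⟨r, hr, hd, Or.inr (Or.inr (Or.inr ⟨K, _, _, a, b, hK, hab, ⟨e⟩⟩))⟩))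
    · exact Or.inl ⟨_, r, by omega, hr, hd⟩
    · exact Or.inl ⟨_, r, by omega, hr, hd⟩

/-- **Orders dividing `|PΩ⁺_2m(p)|`.** -/
theorem plus_card {m : ℕ} (hp : p.Prime) (hp2 : p ≠ 2) (hm : 8 ≤ m) {F : Type u} [Field F] [Fintype F]
    (hF : Fintype.card F = p) {T : Type v} [Group T] (hT : H888.C6.ClDeg (2 * m) p T)
    (hd : Nat.card T ∣ Nat.card (POmega F (quadFormPlus m F))) :
    Nat.card T = Nat.card (POmega F (quadFormPlus m F)) := by
  rcases exists_large hm hp hp2 hT with ⟨e, r, h1, h2, h3⟩ | ⟨e, r, h1, h2, h3⟩ | ⟨r, h2, h3, -⟩ | h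
  · have := plus_exp h2 hF (by omega) (h3.trans hd)
    omega
  · have := plus_exp h2 hF (by omega) (h3.trans hd)
    omega
  · have := plus_exp h2 hF (by omega) (h3.trans hd)
    omega
  · obtain ⟨K, _, _, hK, ⟨e⟩⟩ := h
    rw [Nat.card_congr e.toEquiv]
    have h1 := Cfsg.Agent.S0293.result hK m (by omega)
    have h2 := Cfsg.Agent.S0293.result hF m (by omega)
    rw [← h2] at h1
    exact Nat.eq_of_mul_eq_mul_left (Nat.gcd_pos_of_pos_left _ (by norm_num)) h1

/-- **Orders dividing `|PSp_2m(p)|`.** -/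
theorem sp_cases {m : ℕ} (hp : p.Prime) (hp2 : p ≠ 2) (hm : 8 ≤ m) {F : Type u} [Field F] [Fintype F]
    (hF : Fintype.card F = p) {T : Type v} [Group T] (hT : H888.C6.ClDeg (2 * m) p T)
    (hd : Nat.card T ∣ Nat.card (PSp m F)) :
    Nat.card T = Nat.card (PSp m F) ∨
    (∃ (K : Type) (_ : Field K) (_ : Fintype K), Fintype.card K = p ∧
      Nonempty (T ≃* POmega K (quadFormPlus m K))) ∨
    (∃ (K : Type) (_ : Field K) (_ : Fintype K) (a b : K), Fintype.card K = p ∧
      (∀ z₁ z₂ : K, z₁ ^ 2 + a * z₁ * z₂ + b * z₂ ^ 2 = 0 → z₁ = 0 ∧ z₂ = 0) ∧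
      Nonempty (T ≃* POmega K (quadFormMinus (m - 1) K a b))) := by
  have hsp := card_psp F m (by omega)
  rw [hF] at hsp
  have hg : Nat.gcd 2 (p - 1) = 2 := by
    refine Nat.gcd_eq_left ?_
    rcases hp.odd_of_ne_two hp2 with ⟨c, hc⟩
    exact ⟨c, by omega⟩
  rw [hg] at hsp
  rcases exists_large hm hp hp2 hT with ⟨e, r, h1, h2, h3⟩ | ⟨e, r, h1, h2, h3⟩ | ⟨r, h2, h3, h⟩ | h
  · have := (sp_exp h2 hF (by omega) (h3.trans hd)).1
    omega
  · have := (sp_exp h2 hF (by omega) (h3.trans hd)).2 ⟨m - 1, by omega⟩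
    omega
  · rcases h with h | h | h | h
    · obtain ⟨K, _, _, hK, ⟨e⟩⟩ := h
      left
      rw [Nat.card_congr e.toEquiv]
      have h4 := card_psp K m (by omega)
      rw [hK, hg, ← hsp] at h4
      omega
    · obtain ⟨K, _, _, hK, ⟨e⟩⟩ := h
      left
      rw [Nat.card_congr e.toEquiv]
      have h4 := Cfsg.Agent.S0292.result hK (hp.odd_of_ne_two hp2) m (by omega)
      rw [← hsp] at h4
      omega
    · exfalso
      obtain ⟨K, _, _, hK, ⟨e⟩⟩ := h
      rw [Nat.card_congr e.toEquiv] at hd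
      have h4 := Cfsg.Agent.S0293.result hK (m + 1) (by omega)
      have hpp : ∀ j, 1 ≤ j → ¬ p ∣ p ^ j - 1 := fun j hj => H878.coprime_pow_sub_one hp dvd_rfl hp.one_le hj
      have h5 : p ^ ((m + 1) * m) ∣ Nat.card (POmega K (quadFormPlus (m + 1) K)) := by
        rw [Nat.add_sub_cancel, mul_assoc] at h4
        refine (H878.ppart_iff hp (A := Nat.gcd 4 (p ^ (m + 1) - 1)) ?_ ?_ h4 _).2 dvd_rfl
        · intro h6
          exact hpp (m + 1) (by omega) (h6.trans (Nat.gcd_dvd_right _ _))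
        · refine fun h6 => ?_
          rcases (Nat.Prime.dvd_mul hp).1 h6 with h7 | h7
          · exact hpp _ (by omega) h7
          · exact H878.prime_not_dvd_prod hp _ _ (fun i _ => hpp _ (by omega)) h7
      have h6 : p ^ ((m + 1) * m) ∣ p ^ (m ^ 2) := by
        refine (H878.ppart_iff hp (A := 2) ?_ ?_ hsp _).1 (h5.trans hd)
        · intro h7
          exact hp2 ((Nat.prime_dvd_prime_iff_eq hp Nat.prime_two).1 h7)
        · exact H878.prime_not_dvd_prod hp _ _ fun i _ => hpp _ (by omega)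
      have h7 := (Nat.pow_dvd_pow_iff_le_right hp.one_lt).1 h6
      linarith only [hm, h7]
    · exact Or.inr (Or.inr h)
  · exact Or.inr (Or.inl h)

end Cfsg.Agent.H742.ClOrd
end
end
end
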